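/-
Data of a cyclic maximal torus: a Weyl group element with a cyclic vector on the root lattice.
-/
import Cfsg.Agent.Lib.Chev.Good
import Cfsg.Agent.Lib.Chev.Conj
import Cfsg.Agent.Lib.Chev.Weyl

set_option autoImplicit false

namespace CfsgLib.Chev.Tori

open Cfsg.Lie CfsgLib.Chev

variable (D : ChevalleyDatum) (A : Aux)

/-- a word, a root with `ℤ`-spanning orbit, the inverse of the orbit basis, the minimal relation -/
structure Cyc where
  word : List ℕ
  r0 : ℕ
  mat : List (List ℤ)
  char : List ℤ

namespace Cyc

variable {D A} (C : Cyc)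

/-- the roots of the orbit -/
noncomputable def orb (A : Aux) : ℕ → ℕ
  | 0 => C.r0
  | k + 1 => wf A C.word (orb A k)

/-- an entry of the inverse of the orbit basis -/
def mEnt (i k : ℕ) : ℤ := (C.mat.getD i []).getD k 0

/-- the coefficient of `q ^ k` in the exponent of a root -/
noncomputable def coef (D : ChevalleyDatum) (A : Aux) (r k : ℕ) : ℤ :=
  ∑ i ∈ Finset.range D.rank, A.a r i * C.mEnt i k

/-- the exponent of a root at `q` -/
noncomputable def expo (D : ChevalleyDatum) (A : Aux) (q : ℤ) (r : ℕ) : ℤ :=
  ∑ k ∈ Finset.range D.rank, C.coef D A r k * q ^ k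

/-- the order of the torus of the adjoint group -/
def ord (l : ℕ) (q : ℤ) : ℤ := ∑ k ∈ Finset.range (l + 1), C.char.getD k 0 * q ^ k

/-- the lattice identities -/
noncomputable def check (D : ChevalleyDatum) (A : Aux) : Bool :=
  C.word.all (fun i => decide (i < D.rank)) && decide (C.r0 < D.nroots) &&
  ((List.range D.rank).all fun i => (List.range D.rank).all fun j =>
    decide ((∑ k ∈ Finset.range D.rank, C.mEnt i k * A.a (C.orb A k) j) = if i = j then 1 else 0) &&
      decide (C.coef D A (C.orb A i) j = if i = j then 1 else 0)) &&
  ((List.range D.rank).all fun j =>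
    decide ((∑ k ∈ Finset.range (D.rank + 1), C.char.getD k 0 * A.a (C.orb A k) j) = 0)) &&
  decide (C.char.getD D.rank 0 = 1) && decide (0 < D.rank) &&
  ((List.range D.nroots).all fun r => (List.range D.rank).all fun k =>
    decide (C.coef D A (wf A C.word r) k = (if k = 0 then 0 else C.coef D A r (k - 1)) -
      C.coef D A r (D.rank - 1) * C.char.getD k 0))

/-- coefficient vectors are small, nonzero and distinct -/
noncomputable def small (D : ChevalleyDatum) (A : Aux) (B : ℤ) : Bool :=
  let vec := fun r => (List.range D.rank).map fun k => C.coef D A r k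
  let zero : List ℤ := (List.range D.rank).map fun _ => 0
  (List.range D.nroots).all fun r =>
    decide (vec r ≠ zero) && (vec r).all (fun x => decide (-B ≤ x ∧ x ≤ B)) &&
      (List.range D.nroots).all fun s =>
        (decide (r = s) || decide (vec r ≠ vec s)) &&
          ((List.zip (vec r) (vec s)).all fun p => decide (-B ≤ p.1 - p.2 ∧ p.1 - p.2 ≤ B))

/-- the Horner values of a coefficient list, lowest first -/
def horner (q : ℤ) : List ℤ → ℤ
  | [] => 0
  | c :: p => horner q p * q + c

/-- all tails of a coefficient list are positive at `q` -/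
def posTails (q : ℤ) : List ℤ → Bool
  | [] => true
  | c :: p => decide (0 < horner q (c :: p)) && posTails q p

/-- the comparison polynomial `char - f·B·(1 + ... + q^(l-1))` -/
def cmpPoly (l : ℕ) (f B : ℤ) : List ℤ :=
  (List.range l).map (fun k => C.char.getD k 0 - f * B) ++ [1]

/-- tuples of candidates -/
def tuples : List (List ℕ) → List (List ℕ)
  | [] => [[]]
  | L :: Ls => L.flatMap fun x => (tuples Ls).map fun t => x :: t

/-- what regularity needs at one value of `q`, with torus of order `n` -/
noncomputable def goodAt (D : ChevalleyDatum) (A : Aux) (q n : ℤ) : Bool :=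
  let sv : List ℕ := (List.range D.rank).map fun i => D.simple i
  let ev : List ℤ := (List.range D.nroots).map fun r => C.expo D A q r % n
  let gram : List ℕ → List (List ℤ) := fun t => t.map fun x => t.map fun y => pr D A x y
  let gs := gram sv
  ev.all (fun x => decide (x ≠ 0)) &&
    (tuples (sv.map fun s => (List.range D.nroots).filter fun r => decide (ev.getD r 0 = ev.getD s 0))).all
      fun t => decide (t = sv) || decide (gram t ≠ gs)

end Cyc

end CfsgLib.Chev.Tori
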