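/-
Consequences of the lattice identities of a cyclic torus datum.
-/
import Cfsg.Agent.Lib.Chev.Tori.Data
import Cfsg.Agent.Lib.Chev.Group

set_option autoImplicit false

namespace CfsgLib.Chev.Tori

open Cfsg.Lie CfsgLib.Chev

variable {D : ChevalleyDatum} {A : Aux}

/-- the lattice identities as propositions -/
structure CycOK (C : Cyc) (D : ChevalleyDatum) (A : Aux) : Prop where
  letters : Letters D C.word
  r0_lt : C.r0 < D.nroots
  inv_left : ∀ i < D.rank, ∀ j < D.rank,
    (∑ k ∈ Finset.range D.rank, C.mEnt i k * A.a (C.orb A k) j) = if i = j then 1 else 0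
  inv_right : ∀ i < D.rank, ∀ j < D.rank, C.coef D A (C.orb A i) j = if i = j then 1 else 0
  rel : ∀ j < D.rank, (∑ k ∈ Finset.range (D.rank + 1), C.char.getD k 0 * A.a (C.orb A k) j) = 0
  monic : C.char.getD D.rank 0 = 1
  rank_pos : 0 < D.rank
  shift : ∀ r < D.nroots, ∀ k < D.rank, C.coef D A (wf A C.word r) k =
    (if k = 0 then 0 else C.coef D A r (k - 1)) - C.coef D A r (D.rank - 1) * C.char.getD k 0

theorem cycOK_of_check {C : Cyc} (h : C.check D A = true) : CycOK C D A := by
  simp only [Cyc.check, Bool.and_eq_true, List.all_eq_true, List.mem_range, decide_eq_true_eq] at h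
  obtain ⟨⟨⟨⟨⟨⟨h1, h2⟩, h3⟩, h4⟩, h5⟩, h6⟩, h7⟩ := h
  exact ⟨fun i hi => h1 i hi, h2, fun i hi j hj => (h3 i hi j hj).1, fun i hi j hj => (h3 i hi j hj).2,
    h4, h5, h6, h7⟩

namespace CycOK

variable {C : Cyc} (ok : CycOK C D A) (g : Good D A)

include ok g in
theorem orb_lt : ∀ k, C.orb A k < D.nroots
  | 0 => ok.r0_lt
  | k + 1 => wf_lt g ok.letters (orb_lt k)

theorem coef_simple {i : ℕ} (g : Good D A) (hi : i < D.rank) (k : ℕ) :
    C.coef D A (D.simple i) k = C.mEnt i k := by
  rw [Cyc.coef, Finset.sum_eq_single i]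
  · rw [g.a_simple i hi i hi, if_pos rfl, one_mul]
  · intro j hj hji
    rw [g.a_simple i hi j (Finset.mem_range.1 hj), if_neg hji, zero_mul]
  · intro h; exact absurd (Finset.mem_range.2 hi) h

theorem expo_linear (g : Good D A) (q : ℤ) (r : ℕ) :
    C.expo D A q r = ∑ i ∈ Finset.range D.rank, A.a r i * C.expo D A q (D.simple i) := by
  calc C.expo D A q r
      = ∑ k ∈ Finset.range D.rank, ∑ i ∈ Finset.range D.rank, A.a r i * C.mEnt i k * q ^ k := by
        simp only [Cyc.expo, Cyc.coef, Finset.sum_mul]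
    _ = ∑ i ∈ Finset.range D.rank, ∑ k ∈ Finset.range D.rank, A.a r i * C.mEnt i k * q ^ k :=
        Finset.sum_comm
    _ = _ := Finset.sum_congr rfl fun i hi => by
        rw [Cyc.expo, Finset.mul_sum]
        exact Finset.sum_congr rfl fun k _ => by
          rw [coef_simple g (Finset.mem_range.1 hi)]; ring

include ok in
theorem expo_wf (q : ℤ) {r : ℕ} (hr : r < D.nroots) :
    C.expo D A q (wf A C.word r) =
      q * C.expo D A q r - C.coef D A r (D.rank - 1) * C.ord D.rank q := by
  obtain ⟨m, hm⟩ : ∃ m, D.rank = m + 1 := ⟨D.rank - 1, by have := ok.rank_pos; omega⟩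
  have h1 : C.expo D A q (wf A C.word r) =
      ∑ k ∈ Finset.range D.rank, ((if k = 0 then 0 else C.coef D A r (k - 1)) -
        C.coef D A r (D.rank - 1) * C.char.getD k 0) * q ^ k :=
    Finset.sum_congr rfl fun k hk => by rw [ok.shift r hr k (Finset.mem_range.1 hk)]
  have h2 : ∀ f : ℕ → ℤ, (∑ k ∈ Finset.range D.rank, (if k = 0 then 0 else f (k - 1)) * q ^ k) =
      q * (∑ k ∈ Finset.range D.rank, f k * q ^ k) - f m * q ^ (m + 1) := by
    intro f
    rw [hm, Finset.sum_range_succ', Finset.sum_range_succ (fun k => f k * q ^ k)]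
    simp only [Nat.add_sub_cancel, Nat.succ_ne_zero, if_false, if_true, zero_mul, add_zero]
    rw [mul_add, Finset.mul_sum]
    have : ∀ k ∈ Finset.range m, f k * q ^ (k + 1) = q * (f k * q ^ k) := fun k _ => by ring
    rw [Finset.sum_congr rfl this]
    ring
  rw [h1]
  simp only [sub_mul, Finset.sum_sub_distrib]
  rw [h2 (fun k => C.coef D A r k), show D.rank - 1 = m by omega, Cyc.expo, Cyc.ord,
    Finset.sum_range_succ, ok.monic, hm, mul_add, Finset.mul_sum, Finset.mul_sum]
  ring_nf

include ok in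
theorem expo_r0 (q : ℤ) : C.expo D A q C.r0 = 1 := by
  rw [Cyc.expo, Finset.sum_eq_single 0]
  · have := ok.inv_right 0 ok.rank_pos 0 ok.rank_pos
    simpa [Cyc.orb] using this
  · intro k hk hk0
    have := ok.inv_right 0 ok.rank_pos k (Finset.mem_range.1 hk)
    rw [if_neg (Ne.symm hk0)] at this
    simp only [Cyc.orb] at this
    rw [this, zero_mul]
  · intro h; exact absurd (Finset.mem_range.2 ok.rank_pos) h

end CycOK

/-! ### regularity -/

theorem horner_mono {q0 q : ℤ} (h0 : 0 ≤ q0) (hq : q0 ≤ q) : ∀ {p : List ℤ},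
    Cyc.posTails q0 p = true → Cyc.horner q0 p ≤ Cyc.horner q p
  | [], _ => le_rfl
  | c :: p, h => by
    simp only [Cyc.posTails, Bool.and_eq_true, decide_eq_true_eq] at h
    have ih := horner_mono h0 hq h.2
    simp only [Cyc.horner]
    have hp : 0 ≤ Cyc.horner q0 p := by
      rcases p with _ | ⟨c', p'⟩
      · simp [Cyc.horner]
      · have := h.2
        simp only [Cyc.posTails, Bool.and_eq_true, decide_eq_true_eq] at this
        exact this.1.le
    nlinarith [mul_le_mul ih hq h0 (hp.trans ih)]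

theorem horner_eq (q : ℤ) : ∀ p : List ℤ,
    Cyc.horner q p = ∑ k ∈ Finset.range p.length, p.getD k 0 * q ^ k
  | [] => by simp [Cyc.horner]
  | c :: p => by
    rw [Cyc.horner, horner_eq q p, List.length_cons, Finset.sum_range_succ', Finset.sum_mul]
    simp only [List.getD_cons_succ, List.getD_cons_zero, pow_zero, mul_one]
    congr 1
    exact Finset.sum_congr rfl fun k _ => by ring

theorem cmp_pos {C : Cyc} (ok : CycOK C D A) {q0 q f B : ℤ} (h0 : 0 ≤ q0) (hq : q0 ≤ q)
    (hp : Cyc.posTails q0 (C.cmpPoly D.rank f B) = true) :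
    f * B * ∑ k ∈ Finset.range D.rank, q ^ k < C.ord D.rank q := by
  have h1 : 0 < Cyc.horner q0 (C.cmpPoly D.rank f B) := by
    cases hc : C.cmpPoly D.rank f B with
    | nil => simp [Cyc.cmpPoly] at hc
    | cons c p =>
      rw [hc] at hp
      simp only [Cyc.posTails, Bool.and_eq_true, decide_eq_true_eq] at hp
      exact hp.1
  have h2 := h1.trans_le (horner_mono h0 hq hp)
  rw [horner_eq] at h2
  have hl : (C.cmpPoly D.rank f B).length = D.rank + 1 := by simp [Cyc.cmpPoly]
  rw [hl, Finset.sum_range_succ] at h2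
  have e1 : (C.cmpPoly D.rank f B).getD D.rank 0 = 1 := by
    rw [Cyc.cmpPoly, List.getD_append_right _ _ _ _ (by simp)]; simp
  have e2 : ∀ k ∈ Finset.range D.rank, (C.cmpPoly D.rank f B).getD k 0 * q ^ k =
      C.char.getD k 0 * q ^ k - f * B * q ^ k := fun k hk => by
    rw [Cyc.cmpPoly, List.getD_append _ _ _ _ (by simpa using Finset.mem_range.1 hk),
      List.getD_eq_getElem _ _ (by simpa using Finset.mem_range.1 hk)]
    simp; ring
  rw [e1, Finset.sum_congr rfl e2, Finset.sum_sub_distrib, ← Finset.mul_sum] at h2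
  rw [Cyc.ord, Finset.sum_range_succ, ok.monic]
  linarith

theorem digits_zero {q B : ℤ} (hB : 0 ≤ B) (hq : B < q) : ∀ {l : ℕ} {d : ℕ → ℤ},
    (∀ k < l, -B ≤ d k ∧ d k ≤ B) → (∑ k ∈ Finset.range l, d k * q ^ k) = 0 → ∀ k < l, d k = 0
  | 0, _, _, _, k, hk => absurd hk (Nat.not_lt_zero k)
  | l + 1, d, hd, hs, k, hk => by
    rw [Finset.sum_range_succ'] at hs
    have hfac : ∑ k ∈ Finset.range l, d (k + 1) * q ^ (k + 1) =
        q * ∑ k ∈ Finset.range l, d (k + 1) * q ^ k := by
      rw [Finset.mul_sum]; exact Finset.sum_congr rfl fun k _ => by ring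
    rw [hfac, pow_zero, mul_one] at hs
    have h0 : d 0 = 0 := by
      refine Int.eq_zero_of_abs_lt_dvd (m := q) ⟨-(∑ k ∈ Finset.range l, d (k + 1) * q ^ k), by linarith⟩ ?_
      have := hd 0 (by omega)
      rw [abs_lt]; omega
    rcases k with _ | k
    · exact h0
    · refine digits_zero hB hq (l := l) (d := fun k => d (k + 1)) (fun k hk => hd (k + 1) (by omega)) ?_ k (by omega)
      rw [h0, add_zero] at hs
      exact (mul_eq_zero.1 hs).resolve_left (by omega)

/-- no exponent and no difference of exponents is divisible by the order -/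
def Regular (C : Cyc) (D : ChevalleyDatum) (A : Aux) (q n : ℤ) : Prop :=
  (∀ r < D.nroots, ¬ n ∣ C.expo D A q r) ∧
    ∀ w, Letters D w → (∀ r < D.nroots, n ∣ C.expo D A q (wf A w r) - C.expo D A q r) →
      ∀ i < D.rank, wf A w (D.simple i) = D.simple i

theorem regular_large {C : Cyc} (ok : CycOK C D A) (g : Good D A) {q0 q f B n : ℤ} (hB : 0 ≤ B)
    (hB0 : B < q0) (hq : q0 ≤ q) (hf : 0 < f) (hs : C.small D A B = true)
    (hp : Cyc.posTails q0 (C.cmpPoly D.rank f B) = true) (hn : C.ord D.rank q ≤ f * n) :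
    Regular C D A q n := by
  have hlt : B * ∑ k ∈ Finset.range D.rank, q ^ k < n := by
    have := cmp_pos ok (hB.trans hB0.le) hq hp
    refine lt_of_mul_lt_mul_left ?_ hf.le
    rw [← mul_assoc]
    linarith
  simp only [Cyc.small, Bool.and_eq_true, Bool.or_eq_true, List.all_eq_true, List.mem_range,
    decide_eq_true_eq] at hs
  have hb : ∀ r < D.nroots, ∀ k < D.rank, -B ≤ C.coef D A r k ∧ C.coef D A r k ≤ B :=
    fun r hr k hk => (hs r hr).1.2 _ (List.mem_map.2 ⟨k, List.mem_range.2 hk, rfl⟩)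
  have key : ∀ d : ℕ → ℤ, (∀ k < D.rank, -B ≤ d k ∧ d k ≤ B) →
      n ∣ ∑ k ∈ Finset.range D.rank, d k * q ^ k → ∀ k < D.rank, d k = 0 := by
    intro d hd hdvd
    refine digits_zero hB (hB0.trans_le hq) hd (Int.eq_zero_of_abs_lt_dvd hdvd ?_)
    refine lt_of_le_of_lt (Finset.abs_sum_le_sum_abs _ _) (lt_of_le_of_lt ?_ hlt)
    rw [Finset.mul_sum]
    refine Finset.sum_le_sum fun k hk => ?_
    have hqk : (0 : ℤ) ≤ q ^ k := pow_nonneg (by linarith) k
    rw [abs_mul, abs_of_nonneg hqk]
    refine mul_le_mul_of_nonneg_right ?_ hqk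
    exact abs_le.2 (hd k (Finset.mem_range.1 hk))
  refine ⟨fun r hr hdvd => ?_, fun w hw hstab i hi => ?_⟩
  · refine (hs r hr).1.1 (List.map_congr_left fun k hk => ?_)
    exact key _ (hb r hr) hdvd k (List.mem_range.1 hk)
  · have hr := g.simple_lt i hi
    have hwr := wf_lt g hw hr
    rcases ((hs _ hwr).2 _ hr).1 with e | e
    · exact e
    · exfalso
      refine e (List.map_congr_left fun k hk => sub_eq_zero.1 ?_)
      refine key (fun k => C.coef D A (wf A w (D.simple i)) k - C.coef D A (D.simple i) k) ?_ ?_ k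
        (List.mem_range.1 hk)
      · intro k hk
        have := ((hs _ hwr).2 _ hr).2
          (C.coef D A (wf A w (D.simple i)) k, C.coef D A (D.simple i) k) (by
            rw [List.mem_iff_getElem]
            exact ⟨k, by simp [hk], by simp⟩)
        exact this
      · have := hstab _ hr
        simpa [Cyc.expo, sub_mul, Finset.sum_sub_distrib] using this

theorem regular_small {C : Cyc} (g : Good D A) {q n : ℤ} (h : C.goodAt D A q n = true) :
    Regular C D A q n := by
  simp only [Cyc.goodAt, Bool.and_eq_true, Bool.or_eq_true, List.all_eq_true,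
    decide_eq_true_eq, List.mem_map, List.mem_range] at h
  refine ⟨fun r hr hdvd => h.1 _ ⟨r, hr, rfl⟩ (Int.dvd_iff_emod_eq_zero.1 hdvd |>.trans rfl),
    fun w hw hstab i hi => ?_⟩
  set sv : List ℕ := (List.range D.rank).map fun i => D.simple i
  have hev : ∀ r < D.nroots, ((List.range D.nroots).map fun r => C.expo D A q r % n).getD r 0 =
      C.expo D A q r % n := fun r hr => by
    rw [List.getD_eq_getElem _ _ (by simpa using hr)]; simp
  have mem : ∀ (L : List ℕ) (P : ℕ → List ℕ) (f : ℕ → ℕ), (∀ x ∈ L, f x ∈ P x) →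
      L.map f ∈ Cyc.tuples (L.map P) := by
    intro L P f hf
    induction L with
    | nil => simp [Cyc.tuples]
    | cons x L ih =>
      simp only [List.map_cons, Cyc.tuples, List.mem_flatMap, List.mem_map]
      exact ⟨f x, hf x List.mem_cons_self, _, ih (fun y hy => hf y (List.mem_cons_of_mem _ hy)), rfl⟩
  have hsv : ∀ x ∈ sv, x < D.nroots := by
    intro x hx
    obtain ⟨j, hj, rfl⟩ := List.mem_map.1 hx
    exact g.simple_lt j (List.mem_range.1 hj)
  have hmem := mem sv (fun s => (List.range D.nroots).filter fun r => decide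
    (((List.range D.nroots).map fun r => C.expo D A q r % n).getD r 0 =
      ((List.range D.nroots).map fun r => C.expo D A q r % n).getD s 0)) (wf A w) (fun x hx => by
    have hwx := wf_lt g hw (hsv x hx)
    simp only [List.mem_filter, List.mem_range, decide_eq_true_eq]
    have he : C.expo D A q (wf A w x) % n = C.expo D A q x % n :=
      Int.emod_eq_emod_iff_emod_sub_eq_zero.2 (Int.emod_eq_zero_of_dvd (hstab x (hsv x hx)))
    exact ⟨hwx, by rw [hev _ hwx, hev _ (hsv x hx)]; exact he⟩)
  rcases h.2 _ hmem with e | e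
  · have := List.map_eq_map_iff.1 (e.trans (List.map_id sv).symm) (D.simple i)
      (List.mem_map.2 ⟨i, List.mem_range.2 hi, rfl⟩)
    exact this
  · refine absurd ?_ e
    simp only [List.map_map]
    refine List.map_congr_left fun x hx => List.map_congr_left fun y hy => ?_
    exact pr_wf g hw (hsv x hx) (hsv y hy)

end CfsgLib.Chev.Tori
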