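/-
The self-centralising cyclic torus attached to a cyclic torus datum, by Lang's theorem.
-/
import Cfsg.Agent.Lib.Chev.Tori.Spec
import Cfsg.Agent.Lib.Chev.RegularTorus
import Cfsg.Agent.Lib.Chev.Lang.Main
import Mathlib.RingTheory.RootsOfUnity.AlgebraicallyClosed

set_option autoImplicit false

namespace CfsgLib.Chev.Tori

open Cfsg.Lie Matrix CfsgLib.Chev CfsgLib.Chev.Lang CfsgLib.KnownB.ChevField

universe u

variable {D : ChevalleyDatum} {A : Aux} {F L : Type*} [Field F] [Field L]

theorem prod_zpow_sum {M ι : Type*} [CommGroup M] (x : M) (f : ι → ℤ) (s : Finset ι) :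
    ∏ k ∈ s, x ^ f k = x ^ ∑ k ∈ s, f k :=
  by
  classical
  induction s using Finset.induction_on with
  | empty => simp
  | insert a S ha ih => rw [Finset.prod_insert ha, Finset.sum_insert ha, _root_.zpow_add, ih]

/-- integral relations among roots are relations among their values -/
theorem wt_comb {ι : Type*} (s : Finset ι) (e : ι → ℤ) (r : ι → ℕ) (ξ : ℕ → Fˣ) :
    ∏ k ∈ s, wt D A ξ (r k) ^ e k =
      ∏ j ∈ Finset.range D.rank, ξ j ^ ∑ k ∈ s, e k * A.a (r k) j := by
  simp only [wt, ← Finset.prod_zpow, ← _root_.zpow_mul]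
  rw [Finset.prod_comm]
  refine Finset.prod_congr rfl fun j _ => ?_
  rw [prod_zpow_sum]
  exact congrArg _ (Finset.sum_congr rfl fun k _ => mul_comm _ _)

/-- the values on the roots move with a monomial element -/
theorem conj_dgn_wt (h : Std D A) {n : GL D.Idx F} {σ : ℕ → ℕ} (hσ : Acts h.good n σ)
    {a b : Fin D.rank → Fˣ} (e : n * dgn D A a * n⁻¹ = dgn D A b) {r : ℕ} (hr : r < D.nroots) :
    wt D A (Lang.ext b) (σ r) = wt D A (Lang.ext a) r := by
  have g := h.good
  obtain ⟨k, hk, hc⟩ := hσ.conj r hr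
  have h1 : xG g (σ r) (k * ((wt D A (Lang.ext a) r : F) * 1)) =
      xG g (σ r) ((wt D A (Lang.ext b) (σ r) : F) * (k * 1)) := by
    rw [← hc, ← dgn_conj_xG g a hr, ← dgn_conj_xG g b (hσ.map.1 r hr), ← hc, ← e]
    group
  have h2 := xG_inj h (hσ.map.1 r hr) h1
  exact Units.ext (mul_right_cancel₀ hk (by rw [mul_comm k] at h2; simpa using h2.symm))

/-- conjugation by a monomial element preserves the adjoint torus -/
theorem conj_dgn [IsAlgClosed F] (g : Good D A) (hdet : (cartanM D A).det ≠ 0) {n : GL D.Idx F}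
    (hn : n ∈ D.monomialSubgroup F) (a : Fin D.rank → Fˣ) :
    ∃ b, n * dgn D A a * n⁻¹ = dgn D A b := by
  obtain ⟨c, hc⟩ := dgn_eq_tor g hdet a
  obtain ⟨d, hd⟩ := monomial_conj_tor g hn c
  exact ⟨fun i => chi D A d (D.simple i), by rw [hc, hd, tor_eq_dgn g d]⟩

/-- the torus elements belonging to the roots of unity -/
noncomputable def ev (C : Cyc) (D : ChevalleyDatum) (A : Aux) (q : ℤ) :
    Fˣ →* (Fin D.rank → Fˣ) :=
  MonoidHom.pi fun i => zpowGroupHom (C.expo D A q (D.simple i))

theorem ev_apply (C : Cyc) (q : ℤ) (z : Fˣ) (i : Fin D.rank) :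
    ev C D A q z i = z ^ C.expo D A q (D.simple i) := rfl

theorem wt_ev (g : Good D A) (C : Cyc) (q : ℤ) (z : Fˣ) (r : ℕ) :
    wt D A (Lang.ext (ev C D A q z)) r = z ^ C.expo D A q r := by
  rw [CycOK.expo_linear g (C := C) q r, ← prod_zpow_sum, wt]
  refine Finset.prod_congr rfl fun i hi => ?_
  rw [Lang.ext, dif_pos (Finset.mem_range.1 hi), ev_apply, ← _root_.zpow_mul, mul_comm]

/-- the values on the roots of a fixed torus element are those of a root of unity -/
theorem fixed_values {C : Cyc} (ok : CycOK C D A) (g : Good D A) (q : ℕ) (a : Fin D.rank → Fˣ)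
    (hfix : ∀ r < D.nroots, wt D A (Lang.ext a) (wf A C.word r) = wt D A (Lang.ext a) r ^ q) :
    wt D A (Lang.ext a) C.r0 ^ C.ord D.rank q = 1 ∧ a = ev C D A q (wt D A (Lang.ext a) C.r0) := by
  set z := wt D A (Lang.ext a) C.r0
  have hk : ∀ k, wt D A (Lang.ext a) (C.orb A k) = z ^ ((q : ℤ) ^ k) := by
    intro k
    induction k with
    | zero => simp [Cyc.orb, z]
    | succ k ih =>
      show wt D A (Lang.ext a) (wf A C.word (C.orb A k)) = _
      rw [hfix _ (CycOK.orb_lt ok g k), ih, pow_succ, _root_.zpow_mul, zpow_natCast]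
  constructor
  · have h1 := wt_comb (D := D) (A := A) (Finset.range (D.rank + 1)) (fun k => C.char.getD k 0)
      (fun k => C.orb A k) (Lang.ext a)
    rw [Finset.prod_eq_one (s := Finset.range D.rank) (fun j hj => by
      rw [ok.rel j (Finset.mem_range.1 hj), zpow_zero])] at h1
    simp only [hk, ← _root_.zpow_mul, prod_zpow_sum] at h1
    rw [← h1, Cyc.ord]
    exact congrArg _ (Finset.sum_congr rfl fun k _ => mul_comm _ _)
  · funext i
    have h1 := wt_comb (D := D) (A := A) (Finset.range D.rank) (fun k => C.mEnt i k)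
      (fun k => C.orb A k) (Lang.ext a)
    have e2 : ∏ j ∈ Finset.range D.rank, Lang.ext a j ^
        ∑ k ∈ Finset.range D.rank, C.mEnt i k * A.a (C.orb A k) j =
        ∏ j ∈ Finset.range D.rank, Lang.ext a j ^ (if (i : ℕ) = j then (1 : ℤ) else 0) :=
      Finset.prod_congr rfl fun j hj => by rw [ok.inv_left i i.isLt j (Finset.mem_range.1 hj)]
    rw [e2] at h1
    simp only [hk, ← _root_.zpow_mul, prod_zpow_sum] at h1
    rw [Finset.prod_eq_single (i : ℕ) (fun j _ hj => by rw [if_neg (Ne.symm hj), zpow_zero])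
      (fun hh => absurd (Finset.mem_range.2 i.isLt) hh), if_pos rfl, zpow_one, Lang.ext,
      dif_pos i.isLt] at h1
    rw [ev_apply, ← h1, Cyc.expo]
    exact congrArg _ (Finset.sum_congr rfl fun k _ => by rw [CycOK.coef_simple (C := C) g i.isLt k, mul_comm])

/-- the root of unity determines the torus element -/
theorem dgn_ev_inj {C : Cyc} (ok : CycOK C D A) (g : Good D A) (q : ℤ) :
    Function.Injective fun z : Fˣ => (dgn D A (ev C D A q z) : GL D.Idx F) := by
  intro z z' e
  have h1 := congrArg (fun y : GL D.Idx F =>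
    (y : Matrix D.Idx D.Idx F) (Sum.inr ⟨C.r0, ok.r0_lt⟩) (Sum.inr ⟨C.r0, ok.r0_lt⟩)) e
  simp only [dgn_val, dia, Matrix.diagonal_apply_eq, Sum.elim_inr, wt_ev g,
    CycOK.expo_r0 ok, zpow_one] at h1
  exact Units.ext h1

/-- what Lang's theorem gives for a cyclic torus datum -/
theorem exists_frame (h : Std D A) (hdet : (cartanM D A).det ≠ 0) {C : Cyc} (ok : CycOK C D A)
    (h0 : C.char.getD 0 0 = 1) {F : Type u} [Field F] [Fintype F] {N : ℕ}
    (hN : (N : ℤ) = C.ord D.rank (Fintype.card F)) :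
    ∃ (K : Type u) (_ : Field K) (_ : IsAlgClosed K) (ι : F →+* K) (σ : K ≃+* K)
      (G : GL D.Idx K), G ∈ D.group K ∧ (∀ x, σ x = x ↔ ∃ y, ι y = x) ∧ (N : K) ≠ 0 ∧
      (∀ x, σ x = x ^ Fintype.card F) ∧
      Matrix.GeneralLinearGroup.map (σ : K →+* K) G = G * nW K h.good C.word ∧
      (∀ z : Kˣ, z ^ N = 1 → Matrix.GeneralLinearGroup.map (σ : K →+* K)
        (G * dgn D A (ev C D A (Fintype.card F) z) * G⁻¹) =
          G * dgn D A (ev C D A (Fintype.card F) z) * G⁻¹) ∧
      (∀ a, Matrix.GeneralLinearGroup.map (σ : K →+* K) (G * dgn D A a * G⁻¹) =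
          G * dgn D A a * G⁻¹ →
        ∃ z : Kˣ, z ^ N = 1 ∧ a = ev C D A (Fintype.card F) z) := by
  have g := h.good
  have hn : nW F g C.word ∈ D.group F :=
    monomialSubgroup_le_group g (nW_mem g ok.letters)
  obtain ⟨K, _, _, ι, σ, hσ, G, hG, hmG⟩ := lang h hdet hn
  rw [map_nW] at hmG
  set q := Fintype.card F
  obtain ⟨p, hp⟩ := CharP.exists F
  have := Fact.mk (CharP.char_is_prime F p)
  have : CharP K p := charP_of_injective_ringHom ι.injective p
  obtain ⟨f, -, hf⟩ := FiniteField.card F p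
  have hσp : σ = iterateFrobenius K p f := RingHom.ext fun x => by
    rw [hσ, iterateFrobenius_def]; exact congrArg _ hf
  have hbij : Function.Bijective σ := hσp ▸ bijective_iterateFrobenius K p f
  let σe : K ≃+* K := RingEquiv.ofBijective σ hbij
  have hσe : ∀ x, σe x = x ^ q := hσ
  have hι : ∀ x, σe x = x ↔ ∃ y, ι y = x := by
    intro x
    rw [hσe]
    constructor
    · intro hx
      classical
      by_contra hne
      push Not at hne
      let P : Polynomial K := Polynomial.X ^ q - Polynomial.X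
      have hP : P ≠ 0 := FiniteField.X_pow_card_sub_X_ne_zero K Fintype.one_lt_card
      have h1 : insert x (Finset.univ.image ι) ⊆ P.roots.toFinset := by
        intro y hy
        rw [Multiset.mem_toFinset, Polynomial.mem_roots hP, Polynomial.IsRoot, Polynomial.eval_sub,
          Polynomial.eval_pow, Polynomial.eval_X, sub_eq_zero]
        rcases Finset.mem_insert.1 hy with rfl | hy
        · exact hx
        · obtain ⟨t, -, rfl⟩ := Finset.mem_image.1 hy
          rw [← map_pow, FiniteField.pow_card]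
      have h2 := (Finset.card_le_card h1).trans
        ((Multiset.toFinset_card_le _).trans (Polynomial.card_roots' P))
      rw [Finset.card_insert_of_notMem (by simpa using hne),
        Finset.card_image_of_injective _ ι.injective, Finset.card_univ,
        FiniteField.X_pow_card_sub_X_natDegree_eq K Fintype.one_lt_card] at h2
      omega
    · rintro ⟨y, rfl⟩
      rw [← map_pow, FiniteField.pow_card]
  have hN0 : (N : K) ≠ 0 := by
    have hq0 : (q : K) = 0 := by
      rw [← map_natCast ι, FiniteField.cast_card_eq_zero, map_zero]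
    have : ((N : ℤ) : K) = 1 := by
      rw [hN, Cyc.ord, Int.cast_sum, Finset.sum_eq_single 0]
      · rw [h0]; simp
      · intro k _ hk; simp [hq0, hk]
      · simp
    intro e
    rw [Int.cast_natCast, e] at this
    exact zero_ne_one this
  set n := nW K g C.word
  have hconj : ∀ a, Matrix.GeneralLinearGroup.map (σe : K →+* K) (G * dgn D A a * G⁻¹) =
      G * (n * dgn D A (fun i => Units.map (σ : K →* K) (a i)) * n⁻¹) * G⁻¹ := by
    intro a
    show Matrix.GeneralLinearGroup.map σ _ = _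
    rw [map_mul, map_mul, map_inv, hmG, map_dgn]
    group
  have hwt : ∀ (a : Fin D.rank → Kˣ) r,
      wt D A (Lang.ext fun i => Units.map (σ : K →* K) (a i)) r = wt D A (Lang.ext a) r ^ q := by
    intro a r
    rw [wt, wt, ← Finset.prod_pow]
    refine Finset.prod_congr rfl fun k hk => ?_
    rw [Lang.ext, Lang.ext, dif_pos (Finset.mem_range.1 hk), dif_pos (Finset.mem_range.1 hk), ← map_zpow]
    exact Units.ext (hσ _)
  refine ⟨K, inferInstance, inferInstance, ι, σe, G, hG, hι, hN0, hσ, hmG, fun z hz => ?_, fun a ha => ?_⟩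
  · rw [hconj]
    set a := ev C D A (q : ℤ) z
    obtain ⟨b, hb⟩ := conj_dgn g hdet (nW_mem (F := K) g ok.letters)
      (fun i => Units.map (σ : K →* K) (a i))
    rw [hb]
    congr 2
    rw [show b = a from ?_]
    funext i
    obtain ⟨r, hr, hri⟩ : ∃ r < D.nroots, wf A C.word r = D.simple i :=
      ⟨wf A C.word.reverse (D.simple i), wf_lt g (fun j hj => ok.letters j (List.mem_reverse.1 hj))
        (g.simple_lt i i.isLt), wf_rev_right g ok.letters (g.simple_lt i i.isLt)⟩
    have h1 := conj_dgn_wt h (nW_acts g ok.letters) hb hr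
    rw [hwt, wt_ev g, hri, wt_simple g _ i.isLt, Lang.ext, dif_pos i.isLt] at h1
    rw [h1, show a i = z ^ C.expo D A (q : ℤ) (D.simple i) from rfl, ← hri, ← zpow_natCast, ← _root_.zpow_mul, CycOK.expo_wf ok _ hr, ← hN,
      _root_.zpow_sub, mul_comm ((q : ℤ)), mul_comm (C.coef D A r _) (N : ℤ), _root_.zpow_mul z (N : ℤ),
      zpow_natCast z N, hz, _root_.one_zpow, inv_one, mul_one]
  · rw [hconj] at ha
    have hb := mul_left_cancel (mul_right_cancel ha)
    obtain ⟨h1, h2⟩ := fixed_values ok g q a (fun r hr => by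
      rw [conj_dgn_wt h (nW_acts g ok.letters) hb hr, hwt])
    rw [← hN, zpow_natCast] at h1
    exact ⟨_, h1, h2⟩

/-- the self-centralising cyclic torus, for faithfully parametrised tori -/
theorem torus (h : Std D A) (hdet : (cartanM D A).det ≠ 0) {C : Cyc} (ok : CycOK C D A)
    (h0 : C.char.getD 0 0 = 1)
    (hT : ∀ (K : Type u) [Field K] (c d : Fin D.rank → Kˣ), tor D A c = tor D A d → c = d)
    {F : Type u} [Field F] [Fintype F] {N : ℕ} (hN : (N : ℤ) = C.ord D.rank (Fintype.card F))
    (hreg : Regular C D A (Fintype.card F) N) :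
    ∃ H : Subgroup ↥(D.group F), IsCyclic ↥H ∧ Nat.card ↥H = N ∧
      Subgroup.centralizer (H : Set ↥(D.group F)) = H := by
  have g := h.good
  obtain ⟨K, _, _, ι, σ, G, hG, hι, hN0, -, -, hfix, hcompl⟩ := exists_frame h hdet ok h0 hN
  set q : ℤ := (Fintype.card F : ℤ)
  have : NeZero (N : K) := ⟨hN0⟩
  obtain ⟨ζ, hζ⟩ := HasEnoughRootsOfUnity.exists_primitiveRoot K N
  have hN' : N ≠ 0 := fun e => hN0 (by rw [e, Nat.cast_zero])
  let z : Kˣ := (hζ.isUnit hN').unit
  have hz : IsPrimitiveRoot z N := IsPrimitiveRoot.coe_units_iff.1 hζ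
  set a := ev C D A q z with ha
  obtain ⟨x, hx, hxe⟩ := fixed_mem_image h (hT K) hι
    (mul_mem (mul_mem hG (dgn_mem_group g hdet a)) (inv_mem hG)) (hfix z hz.pow_eq_one)
  have hinjι : Function.Injective (Matrix.GeneralLinearGroup.map (n := D.Idx) ι) :=
    fun x y e => Units.ext (Matrix.map_injective ι.injective (congrArg Units.val e))
  let φ : ↥(D.group F) →* GL D.Idx K :=
    (MulAut.conj G⁻¹).toMonoidHom.comp
      ((Matrix.GeneralLinearGroup.map ι).comp (D.group F).subtype)
  have hφ : Function.Injective φ :=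
    (MulAut.conj G⁻¹).injective.comp (hinjι.comp Subtype.val_injective)
  let t : ↥(D.group F) := ⟨x, hx⟩
  have hφt : φ t = dgn D A a := by
    show G⁻¹ * Matrix.GeneralLinearGroup.map ι x * G⁻¹⁻¹ = _
    rw [hxe]; group
  have hord : orderOf t = N := by
    rw [← orderOf_injective φ hφ, hφt,
      show dgn D A a = ((dgn D A).comp (ev C D A q)) z from rfl,
      orderOf_injective _ (dgn_ev_inj ok g q), ← hz.eq_orderOf]
  obtain ⟨c, hc⟩ := dgn_eq_tor g hdet a
  have hchi : ∀ r < D.nroots, chi D A c r = z ^ C.expo D A q r := by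
    intro r hr
    have h1 := congrArg (fun y : GL D.Idx K =>
      (y : Matrix D.Idx D.Idx K) (Sum.inr ⟨r, hr⟩) (Sum.inr ⟨r, hr⟩)) hc
    simp only [dgn_val, tor_val, dia, Matrix.diagonal_apply_eq, Sum.elim_inr, ha, wt_ev g] at h1
    exact (Units.ext h1).symm
  refine ⟨Subgroup.zpowers t, inferInstance, by rw [Nat.card_zpowers, hord], ?_⟩
  refine le_antisymm (fun y hy => ?_) ?_
  · have hcy := congrArg φ (Subgroup.mem_centralizer_iff.1 hy t (Subgroup.mem_zpowers t))
    rw [map_mul, map_mul, hφt, hc] at hcy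
    obtain ⟨d, hd⟩ := commute_regular_stab h c
      (fun r hr e => hreg.1 r hr (by rwa [hchi r hr, hz.zpow_eq_one_iff_dvd] at e))
      (fun w hw hst i hi => hreg.2 w hw (fun r hr => by
        have e := hst r hr
        rw [hchi r hr, hchi _ (wf_lt g hw hr)] at e
        rw [← hz.zpow_eq_one_iff_dvd, _root_.zpow_sub, e, mul_inv_cancel]) i hi)
      (show φ y ∈ D.group K from mul_mem (mul_mem (inv_mem hG)
        (group_map_le g ι ⟨y.1, y.2, rfl⟩)) (inv_mem (inv_mem hG))) hcy
    rw [tor_eq_dgn g] at hd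
    set b : Fin D.rank → Kˣ := fun i => chi D A d (D.simple i)
    have hyG : G * dgn D A b * G⁻¹ = Matrix.GeneralLinearGroup.map ι y.1 := by
      rw [← hd]
      show G * (G⁻¹ * Matrix.GeneralLinearGroup.map ι y.1 * G⁻¹⁻¹) * G⁻¹ = _
      group
    obtain ⟨z', hz', hb⟩ := hcompl b (by rw [hyG]; exact map_image_fixed hι y.1)
    have : NeZero N := ⟨hN'⟩
    obtain ⟨i, -, hi'⟩ := hζ.eq_pow_of_pow_eq_one (ξ := (z' : K))
      (by rw [← Units.val_pow_eq_pow_val, hz', Units.val_one])
    have hi : z ^ i = z' := Units.ext (by rw [Units.val_pow_eq_pow_val]; exact hi')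
    refine ⟨(i : ℤ), hφ ?_⟩
    rw [hd, hb, ← hi, map_pow, map_pow, ← ha, ← hφt]
    simp
  · rw [Subgroup.zpowers_le, Subgroup.mem_centralizer_iff]
    intro s hs
    obtain ⟨i, rfl⟩ := Subgroup.mem_zpowers_iff.1 hs
    exact ((Commute.refl t).zpow_left i).eq

end CfsgLib.Chev.Tori
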