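/-
A covering of the Chevalley group inside the product with a larger Chevalley group with faithful torus,
and the obstruction which it gives for rational torus elements.
-/
import Cfsg.Agent.Lib.Chev.Tori.Main
import Cfsg.Agent.Lib.Steinberg.Embed

set_option autoImplicit false

namespace CfsgLib.Chev.Tori

open Cfsg.Lie Matrix CfsgLib.Chev CfsgLib.Chev.Lang CfsgLib.KnownB.ChevField CfsgLib.Steinberg

variable {D D' : ChevalleyDatum} {A A' : Aux}

/-- a root map into a larger datum -/
structure EmbOK (D : ChevalleyDatum) (A : Aux) (D' : ChevalleyDatum) (A' : Aux) (e : ℕ → ℕ) : Prop where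
  rank_le : D.rank ≤ D'.rank
  simple : ∀ i < D.rank, e (D.simple i) = D'.simple i
  lt : ∀ r < D.nroots, e r < D'.nroots
  neg : ∀ r < D.nroots, e (A.neg r) = A'.neg (e r)
  terms : ∀ r < D.nroots, ∀ s < D.nroots, s ≠ r → s ≠ A.neg r →
    e s ≠ e r ∧ e s ≠ A'.neg (e r) ∧
      A'.terms (e r) (e s) = (A.terms r s).map fun q => (e q.1, q.2)
  cart : ∀ i < D.rank, ∀ j < D.rank, A'.cart j (D'.simple i) = A.cart j (D.simple i)

theorem embOK {l : List ℕ} (he : embChk D A D' A' l = true)
    (hc : ((List.range D.rank).all fun i => (List.range D.rank).all fun j =>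
      decide (A'.cart j (D'.simple i) = A.cart j (D.simple i))) = true) :
    EmbOK D A D' A' fun r => l.getD r 0 := by
  simp only [embChk, List.all_eq_true, List.mem_range, Bool.and_eq_true, decide_eq_true_eq] at he hc
  obtain ⟨⟨h1, h2⟩, h3⟩ := he
  exact ⟨h1, h2, fun r hr => (h3 r hr).1.1, fun r hr => (h3 r hr).1.2,
    fun r hr s hs hsr hsn => ((h3 r hr).2 s hs).resolve_left hsr |>.resolve_left hsn, hc⟩

variable {F L : Type*} [Field F] [Field L]

/-- generated by the pairs of corresponding root elements -/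
noncomputable def pairGrp (F : Type*) [Field F] (g : Good D A) (g' : Good D' A') (e : ℕ → ℕ) :
    Subgroup (GL D.Idx F × GL D'.Idx F) :=
  Subgroup.closure {p | ∃ r t, r < D.nroots ∧ p = (xG g r t, xG g' (e r) t)}

theorem pair_gen (g : Good D A) (g' : Good D' A') (e : ℕ → ℕ) {r : ℕ} (hr : r < D.nroots) (t : F) :
    (xG g r t, xG g' (e r) t) ∈ pairGrp F g g' e :=
  Subgroup.subset_closure ⟨r, t, hr, rfl⟩

theorem pair_map (g : Good D A) (g' : Good D' A') (e : ℕ → ℕ) (j : F →+* L)
    {p : GL D.Idx F × GL D'.Idx F} (hp : p ∈ pairGrp F g g' e) :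
    (Matrix.GeneralLinearGroup.map j p.1, Matrix.GeneralLinearGroup.map j p.2) ∈ pairGrp L g g' e := by
  have h : pairGrp F g g' e ≤ (pairGrp L g g' e).comap
      ((Matrix.GeneralLinearGroup.map j).prodMap (Matrix.GeneralLinearGroup.map j)) := by
    refine (Subgroup.closure_le _).2 ?_
    rintro _ ⟨r, t, hr, rfl⟩
    show (Matrix.GeneralLinearGroup.map j (xG g r t),
      Matrix.GeneralLinearGroup.map j (xG g' (e r) t)) ∈ pairGrp L g g' e
    rw [map_xG, map_xG]
    exact pair_gen g g' e hr _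
  exact h hp

theorem pair_lift (g : Good D A) (g' : Good D' A') (e : ℕ → ℕ) {x : GL D.Idx F} (hx : x ∈ D.group F) :
    ∃ x', (x, x') ∈ pairGrp F g g' e := by
  have h : D.group F ≤ (pairGrp F g g' e).map (MonoidHom.fst _ _) := by
    rw [group_eq g, pairGrp, MonoidHom.map_closure]
    refine Subgroup.closure_mono ?_
    rintro _ ⟨r, t, hr, rfl⟩
    exact ⟨_, ⟨r, t, hr, rfl⟩, rfl⟩
  obtain ⟨p, hp, rfl⟩ := h hx
  exact ⟨p.2, hp⟩

/-- coordinates extended by `1` -/
def pad (D D' : ChevalleyDatum) : (Fin D.rank → Fˣ) →* (Fin D'.rank → Fˣ) :=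
  MonoidHom.mk' (fun c j => if hj : j.val < D.rank then c ⟨j, hj⟩ else 1) fun a b => by
    funext j
    by_cases hj : j.val < D.rank <;> simp [hj]

theorem pad_inj (hle : D.rank ≤ D'.rank) :
    Function.Injective (pad D D' : (Fin D.rank → Fˣ) →* (Fin D'.rank → Fˣ)) := fun a b e => by
  funext i
  simpa [pad, i.isLt] using congrFun e ⟨i, lt_of_lt_of_le i.isLt hle⟩

theorem pad_single (hle : D.rank ≤ D'.rank) (i : Fin D.rank) (x : Fˣ) :
    pad D D' (Pi.mulSingle i x) = Pi.mulSingle ⟨i, lt_of_lt_of_le i.isLt hle⟩ x := by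
  funext j
  show (if hj : j.val < D.rank then _ else _) = _
  by_cases e : j = ⟨i, lt_of_lt_of_le i.isLt hle⟩
  · subst e; simp [i.isLt]
  · rw [Pi.mulSingle_eq_of_ne e]
    split_ifs with hj
    · rw [Pi.mulSingle_eq_of_ne]
      intro e'
      exact e (Fin.ext (show j.val = i.val from (congrArg Fin.val e' :)))
    · rfl

theorem hG_pair_mem (g : Good D A) (g' : Good D' A') {e : ℕ → ℕ} (he : EmbOK D A D' A' e) {i : ℕ}
    (hi : i < D.rank) (c : F) :
    (nG g (D.simple i) c, nG g' (D'.simple i) c) ∈ pairGrp F g g' e := by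
  have hs := g.simple_lt i hi
  have h1 := mul_mem (mul_mem (pair_gen g g' e hs c) (pair_gen g g' e (g.neg_lt _ hs) (-c⁻¹)))
    (pair_gen g g' e hs c)
  rw [he.neg _ hs, he.simple i hi] at h1
  rw [nG, nG, g.neg_eq _ hs, g'.neg_eq _ (g'.simple_lt i (lt_of_lt_of_le hi he.rank_le))]
  exact h1

theorem nW_pair_mem (g : Good D A) (g' : Good D' A') {e : ℕ → ℕ} (he : EmbOK D A D' A' e) :
    ∀ {w : List ℕ}, Letters D w → (nW F g w, nW F g' w) ∈ pairGrp F g g' e
  | [], _ => one_mem _
  | i :: w, hw => by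
    have := mul_mem (hG_pair_mem (F := F) g g' he hw.head 1) (nW_pair_mem g g' he hw.tail)
    simpa [nW, nS] using this

theorem tor_pair_mem (g : Good D A) (g' : Good D' A') {e : ℕ → ℕ} (he : EmbOK D A D' A' e)
    (c : Fin D.rank → Fˣ) : (tor D A c, tor D' A' (pad D D' c)) ∈ pairGrp F g g' e := by
  have h : ∀ i x, (tor D A (Pi.mulSingle i x), tor D' A' (pad D D' (Pi.mulSingle i x))) ∈
      pairGrp F g g' e := by
    intro i x
    rw [pad_single he.rank_le, ← hG_simple g, ← hG_simple g']
    exact mul_mem (hG_pair_mem g g' he i.isLt _) (hG_pair_mem g g' he i.isLt _)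
  rw [← Finset.univ_prod_mulSingle c]
  have key : ∀ s : Finset (Fin D.rank), (tor D A (∏ i ∈ s, Pi.mulSingle i (c i)),
      tor D' A' (pad D D' (∏ i ∈ s, Pi.mulSingle i (c i)))) ∈ pairGrp F g g' e := by
    intro s
    induction s using Finset.induction_on with
    | empty => simp only [Finset.prod_empty, map_one]; exact one_mem _
    | insert a S ha ih =>
      simp only [Finset.prod_insert ha, map_mul]
      exact mul_mem (h a (c a)) ih
  exact key _

/-- the root elements of the pairs -/
noncomputable def pairPre (g : Good D A) (g' : Good D' A') (e : ℕ → ℕ) :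
    Pre g F ↥(pairGrp F g g' e) where
  π := (MonoidHom.fst _ _).comp (pairGrp F g g' e).subtype
  X r t := if hr : r < D.nroots then ⟨_, pair_gen g g' e hr t⟩ else 1
  add r hr t u := by
    rw [dif_pos hr, dif_pos hr, dif_pos hr]
    exact Subtype.ext (Prod.ext (xG_add g r t u) (xG_add g' (e r) t u))
  proj r hr t := by simp [hr]

theorem pairPre_X (g : Good D A) (g' : Good D' A') (e : ℕ → ℕ) {r : ℕ} (hr : r < D.nroots) (t : F) :
    ((pairPre g g' e).X r t : GL D.Idx F × GL D'.Idx F) = (xG g r t, xG g' (e r) t) := by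
  simp [pairPre, hr]

theorem pairData (h : Std D A) (h' : Std D' A') {e : ℕ → ℕ} (he : EmbOK D A D' A' e)
    (hC : splitChk D A = true) : Data h (pairPre (F := F) h.good h'.good e) where
  st := by
    intro r hr s hs hsr hsn t u
    have g := h.good
    obtain ⟨n1, n2, ht⟩ := he.terms r hr s hs hsr hsn
    have hm : ∀ p ∈ tword A r s t u, p.1 < D.nroots := fun p hp => by
      obtain ⟨q, hq, rfl⟩ := List.mem_map.1 hp
      exact (terms_mem g hr hs hq).1
    have hW : ((pairPre h.good h'.good e).W r s t u : GL D.Idx F × GL D'.Idx F) =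
        (((tword A r s t u).map fun p => xG h.good p.1 p.2).prod,
          ((tword A r s t u).map fun p => xG h'.good (e p.1) p.2).prod) := by
      have key : ∀ L : List (ℕ × F), (∀ p ∈ L, p.1 < D.nroots) →
          ((L.map fun p => (pairPre h.good h'.good e).X p.1 p.2).prod : GL D.Idx F × GL D'.Idx F) =
            ((L.map fun p => xG h.good p.1 p.2).prod,
              (L.map fun p => xG h'.good (e p.1) p.2).prod) := by
        intro L hL
        induction L with
        | nil => rfl
        | cons p L ih =>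
          simp only [List.map_cons, List.prod_cons, Subgroup.coe_mul,
            pairPre_X _ _ _ (hL p List.mem_cons_self)]
          rw [ih fun q hq => hL q (List.mem_cons_of_mem _ hq)]
          rfl
      exact key _ hm
    refine Subtype.ext ?_
    rw [Subgroup.coe_mul, Subgroup.coe_mul, Subgroup.coe_mul, hW, pairPre_X _ _ _ hr,
      pairPre_X _ _ _ hs]
    refine Prod.ext ?_ ?_
    · refine Units.ext ?_
      simp only [Prod.fst_mul, Units.val_mul, xG_val, prod_xG_val]
      exact commF_all h hr hs hsr hsn t u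
    · refine Units.ext ?_
      have hw' : tword A' (e r) (e s) t u = (tword A r s t u).map fun p => (e p.1, p.2) := by
        simp only [tword, ht, List.map_map]
        rfl
      simp only [Prod.snd_mul, Units.val_mul, xG_val]
      rw [commF_all h' (he.lt r hr) (he.lt s hs) n1 n2 t u, hw', ← prod_xG_val h'.good, List.map_map]
      rfl
  split := hC
  gen := by
    refine eq_top_iff.2 fun y _ => ?_
    have hle : pairGrp F h.good h'.good e ≤
        (Subgroup.closure {z | ∃ r t, r < D.nroots ∧ z = (pairPre h.good h'.good e).X r t}).map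
          (pairGrp F h.good h'.good e).subtype := by
      conv_lhs => rw [pairGrp]
      refine (Subgroup.closure_le _).2 ?_
      rintro _ ⟨r, t, hr, rfl⟩
      exact ⟨_, Subgroup.subset_closure ⟨r, t, hr, rfl⟩, pairPre_X _ _ _ hr t⟩
    obtain ⟨z, hz, e'⟩ := hle y.2
    rwa [show z = y from Subtype.ext e'] at hz

/-- the kernel of the covering -/
theorem pair_ker (h : Std D A) (h' : Std D' A') {e : ℕ → ℕ} (he : EmbOK D A D' A' e)
    (hC : splitChk D A = true) {x' : GL D'.Idx F}
    (hx : ((1 : GL D.Idx F), x') ∈ pairGrp F h.good h'.good e) :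
    ∃ k, tor D A k = 1 ∧ x' = tor D' A' (pad D D' k) := by
  have hd := pairData (F := F) h h' he hC
  let T : (Fin D.rank → Fˣ) →* ↥(pairGrp F h.good h'.good e) :=
    ((tor D A).prod ((tor D' A').comp (pad D D'))).codRestrict _
      (tor_pair_mem h.good h'.good he)
  have hy : (⟨_, hx⟩ : ↥(pairGrp F h.good h'.good e)) ∈ T.range := by
    refine (show HB (pairPre h.good h'.good e) ≤ T.range from ?_)
      (ker_le_HB hd (show (pairPre h.good h'.good e).π ⟨_, hx⟩ = 1 from rfl))
    refine (Subgroup.closure_le _).2 ?_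
    rintro _ ⟨i, t, hi, ht, rfl⟩
    refine ⟨Pi.mulSingle ⟨i, hi⟩ (Units.mk0 t ht), Subtype.ext ?_⟩
    have hs := h.good.simple_lt i hi
    show (tor D A _, tor D' A' (pad D D' _)) = _
    rw [pad_single he.rank_le, ← hG_simple h.good, ← hG_simple h'.good]
    simp only [HH, NN, Subgroup.coe_mul, pairPre_X _ _ _ hs,
      pairPre_X _ _ _ (h.good.neg_lt _ hs), he.neg _ hs, he.simple i hi, hG, nG,
      h.good.neg_eq _ hs, h'.good.neg_eq _ (h'.good.simple_lt i (lt_of_lt_of_le hi he.rank_le))]
    rfl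
  obtain ⟨k, hk⟩ := hy
  have hk' := congrArg Subtype.val hk
  exact ⟨k, congrArg Prod.fst hk', (congrArg Prod.snd hk').symm⟩

/-! ### the action of a word on the torus parameters -/

/-- a fundamental reflection -/
noncomputable def sAct (D : ChevalleyDatum) (A : Aux) (i : ℕ) (c : Fin D.rank → Fˣ) : Fin D.rank → Fˣ :=
  if hi : i < D.rank then c * Pi.mulSingle ⟨i, hi⟩ (∏ j, c j ^ (-A.cart j.val (D.simple i))) else c

/-- a word -/
noncomputable def wAct (D : ChevalleyDatum) (A : Aux) : List ℕ → (Fin D.rank → Fˣ) → Fin D.rank → Fˣ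
  | [], c => c
  | i :: w, c => sAct D A i (wAct D A w c)

theorem nW_conj_pad (g' : Good D' A') {e : ℕ → ℕ} (he : EmbOK D A D' A' e) :
    ∀ {w : List ℕ}, Letters D w → ∀ c : Fin D.rank → Fˣ,
      nW F g' w * tor D' A' (pad D D' c) * (nW F g' w)⁻¹ = tor D' A' (pad D D' (wAct D A w c))
  | [], _, c => by simp [nW, wAct]
  | i :: w, hw, c => by
    have hi := hw.head
    rw [show nW F g' (i :: w) = nS F g' i * nW F g' w by simp [nW],
      show nS F g' i * nW F g' w * tor D' A' (pad D D' c) * (nS F g' i * nW F g' w)⁻¹ =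
        nS F g' i * (nW F g' w * tor D' A' (pad D D' c) * (nW F g' w)⁻¹) * (nS F g' i)⁻¹ by group,
      nW_conj_pad g' he hw.tail, nS_conj_tor g' (lt_of_lt_of_le hi he.rank_le)]
    congr 1
    simp only [wAct, sAct, dif_pos hi, map_mul, pad_single he.rank_le]
    congr 2
    symm
    refine Fintype.prod_of_injective (Fin.castLE he.rank_le) (Fin.castLE_injective _) _ _ ?_ ?_
    · intro j hj
      have : ¬ j.val < D.rank := fun hlt => hj ⟨⟨j, hlt⟩, rfl⟩
      simp [pad, this]
    · intro j
      simp [pad, he.cart i hi j j.isLt]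

/-- the value of an exponent vector -/
def val (v : List ℤ) {l : ℕ} (c : Fin l → Fˣ) : Fˣ := ∏ j : Fin l, c j ^ v.getD j 0

/-- the transpose of a fundamental reflection -/
noncomputable def sT (D : ChevalleyDatum) (A : Aux) (i : ℕ) (v : List ℤ) : List ℤ :=
  (List.range D.rank).map fun j => v.getD j 0 - v.getD i 0 * A.cart j (D.simple i)

/-- the transpose of a word -/
noncomputable def vT (D : ChevalleyDatum) (A : Aux) : List ℕ → List ℤ → List ℤ
  | [], v => v
  | i :: w, v => vT D A w (sT D A i v)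

/-- the orbit -/
noncomputable def vOrb (D : ChevalleyDatum) (A : Aux) (w : List ℕ) (v : List ℤ) : ℕ → List ℤ
  | 0 => v
  | k + 1 => vT D A w (vOrb D A w v k)

theorem val_wAct : ∀ {w : List ℕ}, Letters D w → ∀ (v : List ℤ) (c : Fin D.rank → Fˣ),
    val v (wAct D A w c) = val (vT D A w v) c
  | [], _, v, c => rfl
  | i :: w, hw, v, c => by
    show val v (sAct D A i (wAct D A w c)) = val (vT D A w (sT D A i v)) c
    rw [← val_wAct hw.tail (sT D A i v) c]
    set b := wAct D A w c
    have hi := hw.head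
    rw [sAct, dif_pos hi]
    set x := ∏ j, b j ^ (-A.cart j.val (D.simple i)) with hx
    simp only [val, Pi.mul_apply, mul_zpow, Finset.prod_mul_distrib]
    rw [show (∏ j : Fin D.rank, Pi.mulSingle (M := fun _ => Fˣ) ⟨i, hi⟩ x j ^ v.getD j 0) =
      x ^ v.getD i 0 by
        rw [Finset.prod_eq_single ⟨i, hi⟩ (fun j _ hj => by simp [Pi.mulSingle_eq_of_ne hj]) (by simp),
          Pi.mulSingle_eq_same]]
    rw [hx, ← Finset.prod_zpow, ← Finset.prod_mul_distrib]
    refine Finset.prod_congr rfl fun j _ => ?_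
    have hget : (sT D A i v).getD j 0 = v.getD j 0 - v.getD i 0 * A.cart j (D.simple i) := by
      simp [sT, List.getD_eq_getElem?_getD, j.isLt]
    rw [hget, ← _root_.zpow_mul, ← _root_.zpow_add]
    congr 1
    ring

/-- the identities of the witness vector -/
noncomputable def obsChk (C : Cyc) (D : ChevalleyDatum) (A : Aux) (v : List ℤ) : Bool :=
  (List.range D.rank).all fun j =>
    decide ((vOrb D A C.word v D.rank).getD j 0 - (vOrb D A C.word v (D.rank - 1)).getD j 0 =
      A.cart j C.r0) &&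
    decide ((∑ k ∈ Finset.range (D.rank + 1),
      C.char.getD k 0 * (vOrb D A C.word v (D.rank - k)).getD j 0) = 0)

/-- a root of unity whose torus element is rational lies in the proper subgroup -/
theorem obstruct (h : Std D A) (h' : Std D' A') {e : ℕ → ℕ} (he : EmbOK D A D' A' e)
    (hC : splitChk D A = true) (hU : Unimodular D') {C : Cyc} (ok : CycOK C D A) {v : List ℤ}
    (hv : obsChk C D A v = true) {K : Type*} [Field K] [IsAlgClosed K]
    (hdet : (cartanM D A).det ≠ 0) {q : ℕ} {ι : F →+* K} {σ : K →+* K} (hσ : ∀ x, σ x = x ^ q)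
    (hσι : ∀ y, σ (ι y) = ι y) {G : GL D.Idx K} (hG : G ∈ D.group K)
    (hmG : Matrix.GeneralLinearGroup.map σ G = G * nW K h.good C.word) {N d : ℕ}
    (hN : (N : ℤ) = C.ord D.rank q) (hq : 0 < q) (hdq : d ∣ q - 1) (hdN : d ∣ N)
    (hker : ∀ k : Fin D.rank → Kˣ, tor D A k = 1 → ∀ i, k i ^ d = 1) {z : Kˣ}
    {x : GL D.Idx F} (hx : x ∈ D.group F)
    (hxz : Matrix.GeneralLinearGroup.map ι x = G * dgn D A (ev C D A q z) * G⁻¹) :
    z ^ (N / d) = 1 := by
  have g := h.good
  have g' := h'.good
  set m := Matrix.GeneralLinearGroup.map (n := D'.Idx) σ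
  obtain ⟨c, hc⟩ := dgn_eq_tor g hdet (ev C D A (q : ℤ) z)
  obtain ⟨x', hx'⟩ := pair_lift g g' e hx
  obtain ⟨G', hG'⟩ := pair_lift g g' e hG
  have hi := pair_map g g' e ι hx'
  obtain ⟨k1, -, hζ⟩ := pair_ker h h' he hC (x' := (nW K g' C.word)⁻¹ * G'⁻¹ * m G') (by
    have h1 := mul_mem (mul_mem (inv_mem (nW_pair_mem (F := K) g g' he ok.letters)) (inv_mem hG'))
      (pair_map g g' e σ hG')
    convert h1 using 1
    simp only [Prod.inv_mk, Prod.mk_mul_mk, hmG]
    exact Prod.ext (by group) rfl)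
  obtain ⟨k2, hk2, hy⟩ := pair_ker h h' he hC
    (x' := (Matrix.GeneralLinearGroup.map ι x')⁻¹ * (G' * tor D' A' (pad D D' c) * G'⁻¹)) (by
    have h1 := mul_mem (inv_mem hi) (mul_mem (mul_mem hG' (tor_pair_mem g g' he c)) (inv_mem hG'))
    convert h1 using 1
    simp only [Prod.inv_mk, Prod.mk_mul_mk, hxz, hc]
    exact Prod.ext (by group) rfl)
  have hpow : ∀ b : Fin D.rank → Kˣ, m (tor D' A' (pad D D' b)) = tor D' A' (pad D D' (b ^ q)) := by
    intro b
    rw [map_tor, map_pow (pad D D')]
    congr 1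
    funext i
    exact Units.ext (by simpa using hσ _)
  have hk2q : k2 ^ q = k2 := by
    funext i
    obtain ⟨t, ht⟩ := hdq
    rw [Pi.pow_apply, show q = d * t + 1 by omega, pow_succ, pow_mul, hker k2 hk2 i, one_pow, one_mul]
  have hfixι : m (Matrix.GeneralLinearGroup.map ι x') = Matrix.GeneralLinearGroup.map ι x' :=
    Units.ext (Matrix.ext fun i j => hσι _)
  have hmG' : m G' = G' * nW K g' C.word * tor D' A' (pad D D' k1) := by
    rw [← hζ]; group
  have hyfix : m (G' * tor D' A' (pad D D' c) * G'⁻¹) = G' * tor D' A' (pad D D' c) * G'⁻¹ := by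
    have e1 : G' * tor D' A' (pad D D' c) * G'⁻¹ =
        Matrix.GeneralLinearGroup.map ι x' * tor D' A' (pad D D' k2) := by
      rw [← hy, mul_inv_cancel_left]
    rw [e1, map_mul, hfixι, hpow, hk2q]
  have heq : tor D' A' (pad D D' (wAct D A C.word (c ^ q))) = tor D' A' (pad D D' c) := by
    rw [map_mul, map_mul, map_inv, hmG', hpow,
      show G' * nW K g' C.word * tor D' A' (pad D D' k1) * tor D' A' (pad D D' (c ^ q)) *
          (G' * nW K g' C.word * tor D' A' (pad D D' k1))⁻¹ =
        G' * (nW K g' C.word * (tor D' A' (pad D D' k1) * tor D' A' (pad D D' (c ^ q)) *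
          (tor D' A' (pad D D' k1))⁻¹) * (nW K g' C.word)⁻¹) * G'⁻¹ by group,
      ← map_mul (tor D' A'), mul_comm, map_mul, mul_inv_cancel_right,
      nW_conj_pad g' he ok.letters] at hyfix
    exact mul_left_cancel (mul_right_cancel hyfix)
  have hc' : wAct D A C.word (c ^ q) = c := pad_inj he.rank_le (tor_eq_iff g' hU heq)
  simp only [obsChk, List.all_eq_true, List.mem_range, Bool.and_eq_true, decide_eq_true_eq] at hv
  set ζ := val (vOrb D A C.word v D.rank) c with hζd
  have hstep : ∀ k, val (vOrb D A C.word v k) c = val (vOrb D A C.word v (k + 1)) c ^ q := by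
    intro k
    conv_lhs => rw [← hc']
    rw [val_wAct ok.letters]
    show val (vOrb D A C.word v (k + 1)) (c ^ q) = _
    rw [val, val, ← Finset.prod_pow]
    refine Finset.prod_congr rfl fun j _ => ?_
    rw [Pi.pow_apply, ← zpow_natCast, ← zpow_natCast, ← _root_.zpow_mul, ← _root_.zpow_mul, mul_comm]
  have hk : ∀ k ≤ D.rank, val (vOrb D A C.word v (D.rank - k)) c = ζ ^ ((q : ℤ) ^ k) := by
    intro k
    induction k with
    | zero => intro; simp [ζ]
    | succ k ih =>
      intro hkl
      rw [hstep, show D.rank - (k + 1) + 1 = D.rank - k by omega, ih (by omega), ← zpow_natCast,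
        ← _root_.zpow_mul, pow_succ]
  have hord : ζ ^ (N : ℤ) = 1 := by
    rw [hN, Cyc.ord, ← prod_zpow_sum, Finset.prod_congr rfl fun k hk' => by
      rw [mul_comm, _root_.zpow_mul, ← hk k (by have := Finset.mem_range.1 hk'; omega)]]
    simp only [val, ← Finset.prod_zpow, ← _root_.zpow_mul]
    rw [Finset.prod_comm]
    refine Finset.prod_eq_one fun j _ => ?_
    rw [prod_zpow_sum, Finset.sum_congr rfl fun k _ => mul_comm _ (C.char.getD k 0),
      (hv j j.isLt).2, zpow_zero]
  have hz : z = ζ * (ζ ^ (q : ℤ))⁻¹ := by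
    have h1 : chi D A c C.r0 = z := by
      have h1 := congrArg (fun y : GL D.Idx K =>
        (y : Matrix D.Idx D.Idx K) (Sum.inr ⟨C.r0, ok.r0_lt⟩) (Sum.inr ⟨C.r0, ok.r0_lt⟩)) hc
      simp only [dgn_val, tor_val, dia, Matrix.diagonal_apply_eq, Sum.elim_inr, wt_ev g,
        CycOK.expo_r0 ok, zpow_one] at h1
      exact (Units.ext h1).symm
    have h2 := hk 1 ok.rank_pos
    rw [pow_one] at h2
    rw [← h1, ← h2, hζd, chi]
    simp only [val, ← Finset.prod_inv_distrib, ← Finset.prod_mul_distrib, ← _root_.zpow_neg,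
      ← _root_.zpow_add]
    refine Finset.prod_congr rfl fun j _ => ?_
    rw [← (hv j j.isLt).1, ← sub_eq_add_neg]
  obtain ⟨t, ht⟩ := hdq
  obtain ⟨u, hu⟩ := hdN
  rcases Nat.eq_zero_or_pos d with rfl | hd
  · simp
  rw [hu, Nat.mul_div_cancel_left _ hd, hz, zpow_natCast, show q = d * t + 1 by omega, pow_succ,
    mul_inv, mul_comm, mul_assoc, inv_mul_cancel, mul_one, inv_pow, ← pow_mul,
    show d * t * u = (d * u) * t by ring, ← hu, pow_mul, ← zpow_natCast ζ N, hord, one_pow, inv_one]

end CfsgLib.Chev.Tori
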