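/-
Cyclic tori when the torus map has a finite kernel: the rational points form a subgroup of index
`gcd (d, q - 1)`.
-/
import Cfsg.Agent.Lib.Chev.Tori.Cover

set_option autoImplicit false

namespace CfsgLib.Chev.Tori

open Cfsg.Lie Matrix CfsgLib.Chev CfsgLib.Chev.Lang CfsgLib.KnownB.ChevField CfsgLib.Steinberg

universe u

variable {D : ChevalleyDatum} {A : Aux} {F F₀ : Type*} [Field F] [Field F₀]

/-- a fixed element comes from the adjoint group of the fixed field -/
theorem fixed_mem_Gad (h : Std D A) {σ : F ≃+* F} {ι : F₀ →+* F}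
    (hι : ∀ x, σ x = x ↔ ∃ y, ι y = x) {y : GL D.Idx F} (hy : y ∈ D.group F)
    (hfix : Matrix.GeneralLinearGroup.map (σ : F →+* F) y = y) :
    y ∈ (Gad h.good).map (Matrix.GeneralLinearGroup.map ι) := by
  have g := h.good
  set m := Matrix.GeneralLinearGroup.map (n := D.Idx) (σ : F →+* F)
  set I := (Gad (F := F₀) h.good).map (Matrix.GeneralLinearGroup.map ι)
  have hW : W F g ≤ I := by
    refine (Subgroup.closure_le _).2 ?_
    rintro _ ⟨i, hi, rfl⟩
    exact ⟨nS F₀ g i, group_le_Gad g (nS_mem_group g i), map_nS g ι i⟩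
  obtain ⟨b₁, hb₁, n, hn, τ, hτ, u, hu, e⟩ := normal_form_exists h hy
  obtain ⟨n₀, hn₀, c, rfl⟩ := monomial_split g hn
  obtain ⟨d, hd⟩ := monomial_conj_tor g (W_le_monomial g hn₀) c
  set b := b₁ * tor D A d with hbdef
  have hb : b ∈ D.borelSubgroup F := mul_mem hb₁ (tor_mem_borel g d)
  have hτ₀ : Acts g n₀ τ := by
    have := hτ.mul (acts_tor g c⁻¹)
    rwa [map_inv, mul_inv_cancel_right] at this
  have e' : y = b * n₀ * u := by
    rw [e, hbdef, ← hd]
    group
  obtain ⟨x₀, hx₀, hx₀'⟩ := hW hn₀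
  have hmn : m n₀ = n₀ := by
    rw [← hx₀']
    exact map_image_fixed hι x₀
  have e2 : m b * n₀ * m u = b * n₀ * u := by
    rw [← e']
    conv_rhs => rw [← hfix, e', map_mul, map_mul, hmn]
  obtain ⟨hbfix, hufix⟩ := normal_form_unique h hτ₀ (borel_map_mem g _ hb) hb
    (UP_map_le g _ _ ⟨u, hu, rfl⟩) hu e2
  have hpos : ∀ v ∈ D.posUnipotent F, m v = v → v ∈ I := by
    intro v hv hmv
    rw [← UL_posRoots g] at hv
    obtain ⟨T, rfl⟩ := exists_pw h upList_posRoots hv
    rw [map_pw] at hmv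
    have hT := pw_inj h upList_posRoots hmv
    choose! T₀ hT₀ using fun r (hr : r ∈ D.posRoots) => (hι (T r)).1 (hT r hr)
    refine ⟨pw g D.posRoots T₀,
      group_le_Gad g (posUnipotent_le_group g (UL_posRoots (F := F₀) g ▸ pw_mem_UL g _ T₀)), ?_⟩
    rw [map_pw, pw, pw]
    exact congrArg List.prod (List.map_congr_left fun r hr => by rw [hT₀ r hr])
  obtain ⟨v, hv, a, hva⟩ := (mem_borel_iff g).1 hb
  set a' : Fin D.rank → Fˣ := fun i => Units.map (σ : F →* F) (a i)
  have e3 : m v * tor D A a' = v * tor D A a := by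
    rw [← hva]
    conv_rhs => rw [← hbfix, hva, map_mul]
    congr 1
    exact (map_tor (σ : F →+* F) a).symm
  have e4 : v⁻¹ * m v = 1 := by
    refine Subgroup.mem_bot.1 ((posUnipotent_inf_diagonal (F := F) h).le (Subgroup.mem_inf.2
      ⟨mul_mem (inv_mem hv) (pos_map_mem g (σ : F →+* F) hv), ?_⟩))
    rw [show v⁻¹ * m v = tor D A a * (tor D A a')⁻¹ by
      rw [eq_mul_inv_iff_mul_eq, mul_assoc, e3, inv_mul_cancel_left], diagonalSubgroup_eq g]
    exact mul_mem ⟨a, rfl⟩ (inv_mem ⟨a', rfl⟩)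
  have hmv : m v = v := (inv_mul_eq_one.1 e4).symm
  rw [hmv] at e3
  have hchi : ∀ i : Fin D.rank, ∃ x : F₀ˣ,
      Units.map (ι : F₀ →* F) x = chi D A a (D.simple i) := fun i => by
    have hs := g.simple_lt i i.isLt
    have h1 := congrArg (fun y : GL D.Idx F =>
      (y : Matrix D.Idx D.Idx F) (Sum.inr ⟨_, hs⟩) (Sum.inr ⟨_, hs⟩)) (mul_left_cancel e3)
    simp only [tor_val, dia, Matrix.diagonal_apply_eq, Sum.elim_inr] at h1
    rw [show a' = fun i => Units.map ((σ : F →+* F) : F →* F) (a i) from rfl, ← map_chi] at h1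
    obtain ⟨x, hx⟩ := (hι (chi D A a (D.simple i) : F)).1 h1
    have hx0 : x ≠ 0 := fun h0 => (chi D A a (D.simple i)).ne_zero (by rw [← hx, h0, map_zero])
    exact ⟨Units.mk0 x hx0, Units.ext hx⟩
  choose a₀ ha₀ using hchi
  rw [e', hva]
  refine mul_mem (mul_mem (mul_mem (hpos v hv hmv) ?_) (hW hn₀))
    (hpos u (UP_toNeg_le g τ hu) hufix)
  refine ⟨dgn D A a₀, dgn_mem_Gad g a₀, ?_⟩
  rw [map_dgn, funext ha₀, ← tor_eq_dgn g]

/-- `N / d` is inverse to the Cartan matrix -/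
noncomputable def DInv (D : ChevalleyDatum) (A : Aux) (N : List (List ℤ)) (d : ℕ) : Bool :=
  (List.range D.rank).all fun i => (List.range D.rank).all fun k =>
    decide ((∑ j ∈ Finset.range D.rank, A.cart i (D.simple j) * (N.getD j []).getD k 0) =
      if i = k then (d : ℤ) else 0) &&
    decide ((∑ j ∈ Finset.range D.rank, (N.getD i []).getD j 0 * A.cart j (D.simple k)) =
      if i = k then (d : ℤ) else 0)

theorem mHom_scalar {l : ℕ} (d : ℕ) (c : Fin l → Fˣ) :
    mHom F ((d : ℤ) • (1 : Matrix (Fin l) (Fin l) ℤ)) c = c ^ d := by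
  funext k
  rw [mHom_apply, Finset.prod_eq_single k]
  · simp
  · intro i _ hik; simp [Matrix.one_apply_ne hik]
  · simp

theorem dinv_spec {N : List (List ℤ)} {d : ℕ} (hN : DInv D A N d = true) :
    ∃ M : Matrix (Fin D.rank) (Fin D.rank) ℤ, cartanM D A * M = (d : ℤ) • 1 ∧
      M * cartanM D A = (d : ℤ) • 1 := by
  simp only [DInv, List.all_eq_true, List.mem_range, Bool.and_eq_true, decide_eq_true_eq] at hN
  refine ⟨Matrix.of fun i j => (N.getD i []).getD j 0, Matrix.ext fun i k => ?_, Matrix.ext fun i k => ?_⟩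
  · rw [Matrix.mul_apply, Matrix.smul_apply, Matrix.one_apply]
    have := (hN i i.isLt k k.isLt).1
    rw [Finset.sum_range] at this
    simp only [Matrix.of_apply, cartanM]
    refine this.trans ?_
    by_cases e : i = k <;> simp [e, Fin.val_inj]
  · rw [Matrix.mul_apply, Matrix.smul_apply, Matrix.one_apply]
    have := (hN i i.isLt k k.isLt).2
    rw [Finset.sum_range] at this
    simp only [Matrix.of_apply, cartanM]
    refine this.trans ?_
    by_cases e : i = k <;> simp [e, Fin.val_inj]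

theorem det_ne_of_dinv {N : List (List ℤ)} {d : ℕ} (hd : 0 < d) (hN : DInv D A N d = true) :
    (cartanM D A).det ≠ 0 := by
  obtain ⟨M, h1, -⟩ := dinv_spec hN
  intro h0
  have h2 := congrArg Matrix.det h1
  rw [Matrix.det_mul, h0, zero_mul, Matrix.det_smul, Matrix.det_one, mul_one] at h2
  exact pow_ne_zero _ (by exact_mod_cast hd.ne') h2.symm

/-- the kernel of the torus map has exponent `d` -/
theorem ker_pow {N : List (List ℤ)} {d : ℕ} (g : Good D A) (hN : DInv D A N d = true)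
    (k : Fin D.rank → Fˣ) (hk : tor D A k = 1) (i : Fin D.rank) : k i ^ d = 1 := by
  obtain ⟨M, h1, -⟩ := dinv_spec hN
  have h2 : mHom F M (mHom F (cartanM D A) k) = k ^ d := by rw [mHom_mul, h1, mHom_scalar]
  rw [(tor_eq_one_iff g k).1 hk, map_one] at h2
  exact (congrFun h2 i).symm

/-- powers of adjoint torus elements -/
theorem dgn_pow_mem [Fintype F] {N : List (List ℤ)} {d : ℕ} (g : Good D A)
    (hN : DInv D A N d = true) {y : GL D.Idx F} (hy : y ∈ Gad g) :
    y ^ Nat.gcd d (Fintype.card F - 1) ∈ D.group F := by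
  classical
  obtain ⟨x, hx, a, rfl⟩ := hy
  have hp : ∀ n : ℕ, ∃ x' ∈ D.group F, (x * dgn D A a) ^ n = x' * dgn D A (a ^ n) := by
    intro n
    induction n with
    | zero => exact ⟨1, one_mem _, by simp⟩
    | succ n ih =>
      obtain ⟨x', hx', e⟩ := ih
      refine ⟨x' * (dgn D A (a ^ n) * x * (dgn D A (a ^ n))⁻¹),
        mul_mem hx' (dgn_conj_group g _ hx), ?_⟩
      rw [pow_succ, e, pow_succ a, map_mul (dgn D A)]
      group
  obtain ⟨x', hx', e⟩ := hp (Nat.gcd d (Fintype.card F - 1))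
  rw [e]
  refine mul_mem hx' ?_
  obtain ⟨M, -, h2⟩ := dinv_spec hN
  set b := a ^ Nat.gcdA d (Fintype.card F - 1) with hb
  have hpow : a ^ Nat.gcd d (Fintype.card F - 1) = b ^ d := by
    funext i
    rw [Pi.pow_apply, Pi.pow_apply, hb, Pi.pow_apply, ← zpow_natCast, Nat.gcd_eq_gcd_ab,
      _root_.zpow_add, mul_comm (d : ℤ), _root_.zpow_mul, zpow_natCast, _root_.zpow_mul, zpow_natCast,
      ← Fintype.card_units, pow_card_eq_one, _root_.one_zpow, mul_one]
  have hc : mHom F (cartanM D A) (mHom F M b) = b ^ d := by rw [mHom_mul, h2, mHom_scalar]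
  refine diagonalSubgroup_le_group g (by
    rw [diagonalSubgroup_eq g, hpow, ← hc]
    exact ⟨mHom F M b, by rw [tor_eq_dgn g]; rfl⟩)

/-- the self-centralising cyclic torus -/
theorem torus_quot {D' : ChevalleyDatum} {A' : Aux} (h : Std D A) (h' : Std D' A') {e : ℕ → ℕ}
    (he : EmbOK D A D' A' e) (hC : splitChk D A = true) (hU : Unimodular D') {C : Cyc}
    (ok : CycOK C D A) (h0 : C.char.getD 0 0 = 1) {v : List ℤ} (hv : obsChk C D A v = true)
    {M : List (List ℤ)} {d : ℕ} (hd : d.Prime) (hM : DInv D A M d = true)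
    {F : Type u} [Field F] [Fintype F] {N : ℕ} (hN : (N : ℤ) = C.ord D.rank (Fintype.card F))
    (hdN : Nat.gcd d (Fintype.card F - 1) ∣ N)
    (hreg : Regular C D A (Fintype.card F) (N / Nat.gcd d (Fintype.card F - 1) : ℕ)) :
    ∃ H : Subgroup ↥(D.group F), IsCyclic ↥H ∧
      Nat.card ↥H = N / Nat.gcd d (Fintype.card F - 1) ∧
      Subgroup.centralizer (H : Set ↥(D.group F)) = H := by
  have g := h.good
  have hdet := det_ne_of_dinv hd.pos hM
  obtain ⟨K, _, _, ι, σ, G, hG, hι, hN0, hσ, hmG, hfix, hcompl⟩ := exists_frame h hdet ok h0 hN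
  set q : ℕ := Fintype.card F with hq
  set g₀ := Nat.gcd d (q - 1) with hg₀
  have hg0 : 0 < g₀ := Nat.gcd_pos_of_pos_left _ hd.pos
  have : NeZero (N : K) := ⟨hN0⟩
  obtain ⟨ζ, hζ⟩ := HasEnoughRootsOfUnity.exists_primitiveRoot K N
  have hN' : N ≠ 0 := fun e => hN0 (by rw [e, Nat.cast_zero])
  let z : Kˣ := (hζ.isUnit hN').unit
  have hz : IsPrimitiveRoot z N := IsPrimitiveRoot.coe_units_iff.1 hζ
  set n := N / g₀ with hn
  have hzn : IsPrimitiveRoot (z ^ g₀) n := hz.pow (Nat.pos_of_ne_zero hN') (Nat.mul_div_cancel' hdN).symm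
  set a := ev C D A (q : ℤ) (z ^ g₀) with ha
  obtain ⟨x, hx, hxe⟩ : ∃ x ∈ D.group F,
      Matrix.GeneralLinearGroup.map ι x = G * dgn D A a * G⁻¹ := by
    obtain ⟨y, hy, hye⟩ := fixed_mem_Gad h hι
      (mul_mem (mul_mem hG (dgn_mem_group g hdet _)) (inv_mem hG)) (hfix z hz.pow_eq_one)
    refine ⟨y ^ g₀, dgn_pow_mem g hM hy, ?_⟩
    rw [map_pow, hye, ha, map_pow, map_pow, conj_pow]
  have hinjι : Function.Injective (Matrix.GeneralLinearGroup.map (n := D.Idx) ι) :=
    fun x y e => Units.ext (Matrix.map_injective ι.injective (congrArg Units.val e))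
  let φ : ↥(D.group F) →* GL D.Idx K :=
    (MulAut.conj G⁻¹).toMonoidHom.comp
      ((Matrix.GeneralLinearGroup.map ι).comp (D.group F).subtype)
  have hφ : Function.Injective φ :=
    (MulAut.conj G⁻¹).injective.comp (hinjι.comp Subtype.val_injective)
  let t : ↥(D.group F) := ⟨x, hx⟩
  have hφt : φ t = dgn D A a := by
    show G⁻¹ * Matrix.GeneralLinearGroup.map ι x * G⁻¹⁻¹ = _
    rw [hxe]; group
  have hord : orderOf t = n := by
    rw [← orderOf_injective φ hφ, hφt,
      show dgn D A a = ((dgn D A).comp (ev C D A (q : ℤ))) (z ^ g₀) from rfl,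
      orderOf_injective _ (dgn_ev_inj ok g (q : ℤ)), ← hzn.eq_orderOf]
  obtain ⟨c, hc⟩ := dgn_eq_tor g hdet a
  have hchi : ∀ r < D.nroots, chi D A c r = (z ^ g₀) ^ C.expo D A q r := by
    intro r hr
    have h1 := congrArg (fun y : GL D.Idx K =>
      (y : Matrix D.Idx D.Idx K) (Sum.inr ⟨r, hr⟩) (Sum.inr ⟨r, hr⟩)) hc
    simp only [dgn_val, tor_val, dia, Matrix.diagonal_apply_eq, Sum.elim_inr, ha, wt_ev g] at h1
    exact (Units.ext h1).symm
  refine ⟨Subgroup.zpowers t, inferInstance, by rw [Nat.card_zpowers, hord], ?_⟩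
  refine le_antisymm (fun y hy => ?_) ?_
  · have hcy := congrArg φ (Subgroup.mem_centralizer_iff.1 hy t (Subgroup.mem_zpowers t))
    rw [map_mul, map_mul, hφt, hc] at hcy
    obtain ⟨b', hb'⟩ := commute_regular_stab h c
      (fun r hr e => hreg.1 r hr (by rwa [hchi r hr, hzn.zpow_eq_one_iff_dvd] at e))
      (fun w hw hst i hi => hreg.2 w hw (fun r hr => by
        have e := hst r hr
        rw [hchi r hr, hchi _ (wf_lt g hw hr)] at e
        rw [← hzn.zpow_eq_one_iff_dvd, _root_.zpow_sub, e, mul_inv_cancel]) i hi)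
      (show φ y ∈ D.group K from mul_mem (mul_mem (inv_mem hG)
        (group_map_le g ι ⟨y.1, y.2, rfl⟩)) (inv_mem (inv_mem hG))) hcy
    rw [tor_eq_dgn g] at hb'
    set b : Fin D.rank → Kˣ := fun i => chi D A b' (D.simple i)
    have hyG : G * dgn D A b * G⁻¹ = Matrix.GeneralLinearGroup.map ι y.1 := by
      rw [← hb']
      show G * (G⁻¹ * Matrix.GeneralLinearGroup.map ι y.1 * G⁻¹⁻¹) * G⁻¹ = _
      group
    obtain ⟨z', hz', hb⟩ := hcompl b (by rw [hyG]; exact map_image_fixed hι y.1)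
    have : NeZero N := ⟨hN'⟩
    obtain ⟨i, -, hi'⟩ := hζ.eq_pow_of_pow_eq_one (ξ := (z' : K))
      (by rw [← Units.val_pow_eq_pow_val, hz', Units.val_one])
    have hi : z ^ i = z' := Units.ext (by rw [Units.val_pow_eq_pow_val]; exact hi')
    obtain ⟨j, rfl⟩ : g₀ ∣ i := by
      rcases (Nat.dvd_prime hd).1 (Nat.gcd_dvd_left d (q - 1)) with e1 | e1
      · rw [← hg₀] at e1; rw [e1]; exact one_dvd _
      · rw [← hg₀] at e1
        rw [e1]
        have h1 := obstruct h h' he hC hU ok hv hdet (σ := (σ : K →+* K)) hσ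
          (fun w => (hι (ι w)).2 ⟨w, rfl⟩) hG hmG hN Fintype.card_pos
          (e1 ▸ Nat.gcd_dvd_right d (q - 1)) (e1 ▸ hdN)
          (fun k hk => ker_pow g hM k hk) (z := z ^ i) y.2 (by rw [← hyG, hb, hi])
        rw [← pow_mul, hz.pow_eq_one_iff_dvd] at h1
        obtain ⟨m, hm⟩ : d ∣ N := e1 ▸ hdN
        rw [hm, Nat.mul_div_cancel_left _ hd.pos, Nat.mul_dvd_mul_iff_right
          (Nat.pos_of_ne_zero fun e => hN' (by rw [hm, e, mul_zero]))] at h1
        exact h1
    refine ⟨(j : ℤ), hφ ?_⟩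
    rw [hb', hb, ← hi, pow_mul, map_pow, map_pow, ← ha, ← hφt]
    simp
  · rw [Subgroup.zpowers_le, Subgroup.mem_centralizer_iff]
    intro s hs
    obtain ⟨i, rfl⟩ := Subgroup.mem_zpowers_iff.1 hs
    exact ((Commute.refl t).zpow_left i).eq

end CfsgLib.Chev.Tori
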