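/-
The cyclic torus of order `q⁴ + 1` of `F₄(q)`.
-/
import Cfsg.Agent.Lib.Chev.Tori.Main
import Cfsg.Agent.Lib.Chev.Types
import Cfsg.Agent.Lib.Chev.OrderTypes

set_option autoImplicit false
set_option maxRecDepth 100000

namespace CfsgLib.Chev.Tori

open Cfsg.Lie CfsgLib.Chev CfsgLib.KnownB.ChevField

/-- the torus datum -/
def cycF4 : Cyc where
  word := [2, 1, 3, 2, 0, 1]
  r0 := 44
  mat := [[1, 0, -1, 1], [0, 0, 1, 0], [0, -1, 0, -1], [-1, 2, -1, 0]]
  char := [1, 0, 0, 0, 1]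

theorem cycF4_ok : CycOK cycF4 chevF4 auxF4 := cycOK_of_check (by decide +kernel)

theorem cycF4_small : cycF4.small chevF4 auxF4 4 = true := by decide +kernel

theorem cycF4_low : ∀ q : ℕ, q < 5 → 2 ≤ q →
    cycF4.goodAt chevF4 auxF4 q (cycF4.ord chevF4.rank q) = true := by decide +kernel

theorem det_F4 : (cartanM chevF4 auxF4).det ≠ 0 :=
  Lang.det_ne_of_smith smithF4 (show ∀ i : Fin 4, (![1, 1, 1, 1] : Fin 4 → ℕ) i ≠ 0 by decide)

theorem regular_F4 {q : ℕ} (hq : 2 ≤ q) :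
    Regular cycF4 chevF4 auxF4 q (cycF4.ord chevF4.rank q) := by
  rcases Nat.lt_or_ge q 5 with h | h
  · exact regular_small stdF4.good (cycF4_low q h hq)
  · exact regular_large (q0 := 5) (f := 1) (B := 4) cycF4_ok stdF4.good (by norm_num) (by norm_num)
      (by exact_mod_cast h) one_pos cycF4_small (by decide +kernel) (by rw [one_mul])

universe u

/-- the self-centralising torus -/
theorem torus_F4 {F : Type u} [Field F] [Fintype F] (q : ℕ) (hF : Fintype.card F = q) :
    ∃ H : Subgroup ↥(chevF4.group F), IsCyclic ↥H ∧ Nat.card ↥H = q ^ 4 + 1 ∧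
      Subgroup.centralizer (H : Set ↥(chevF4.group F)) = H := by
  subst hF
  have hord : ∀ q : ℤ, cycF4.ord chevF4.rank q = q ^ 4 + 1 := fun q => by
    rw [Cyc.ord, show chevF4.rank = 4 by decide +kernel]
    simp [Finset.sum_range_succ, cycF4]
    ring
  have hN : ((Fintype.card F ^ 4 + 1 : ℕ) : ℤ) = cycF4.ord chevF4.rank (Fintype.card F) := by
    rw [hord]; push_cast; ring
  exact torus stdF4 det_F4 cycF4_ok rfl (fun K _ c d e => tor_eq_iff stdF4.good unimodular_F4 e) hN
    (hN ▸ regular_F4 Fintype.one_lt_card)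

end CfsgLib.Chev.Tori
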