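/-
The cyclic torus of order `(q ^ 4 - q ^ 2 + 1) * (q ^ 2 + q + 1) / gcd (3, q - 1)` of `E6(q)`.
-/
import Cfsg.Agent.Lib.Chev.Tori.Quot
import Cfsg.Agent.Lib.Chev.Types

set_option autoImplicit false
set_option maxRecDepth 100000

namespace CfsgLib.Chev.Tori

open Cfsg.Lie CfsgLib.Chev CfsgLib.KnownB.ChevField CfsgLib.Steinberg

/-- the torus datum -/
def cycE6 : Cyc where
  word := [0, 1, 2, 3, 4, 5]
  r0 := 69
  mat := [[-2, -1, 1, 1, -1, -2], [0, 1, -1, 0, -1, 1], [2, 0, -1, -1, 1, 1], [-1, 0, 1, 0, 0, -1],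
    [1, 0, 0, 0, 0, 1], [-1, 0, 0, 1, 0, -1]]
  char := [1, 1, 0, -1, 0, 1, 1]

/-- `3` times the inverse Cartan matrix -/
def ninvE6 : List (List ℤ) :=
  [[4, 3, 5, 6, 4, 2], [3, 6, 6, 9, 6, 3], [5, 6, 10, 12, 8, 4], [6, 9, 12, 18, 12, 6],
    [4, 6, 8, 12, 10, 5], [2, 3, 4, 6, 5, 4]]

theorem cycE6_ok : CycOK cycE6 chevE6 auxE6 := cycOK_of_check (by decide +kernel)

theorem cycE6_small : cycE6.small chevE6 auxE6 4 = true := by decide +kernel

theorem cycE6_low : ∀ q : ℕ, q < 13 → 2 ≤ q →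
    cycE6.goodAt chevE6 auxE6 q (cycE6.ord chevE6.rank q / (Nat.gcd 3 (q - 1) : ℕ)) = true := by
  decide +kernel

theorem embE6 : EmbOK chevE6 auxE6 chevE8 auxE8 fun r => e68.getD r 0 :=
  embOK emb68 (by decide +kernel)

theorem obsE6 : obsChk cycE6 chevE6 auxE6 [1, 1, 1, -1, -1, 0] = true := by decide +kernel

theorem dinvE6 : DInv chevE6 auxE6 ninvE6 3 = true := by decide +kernel

universe u

/-- the self-centralising torus -/
theorem torus_E6 {F : Type u} [Field F] [Fintype F] (q : ℕ) (hF : Fintype.card F = q) :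
    ∃ H : Subgroup ↥(chevE6.group F), IsCyclic ↥H ∧
      Nat.card ↥H = (q ^ 4 - q ^ 2 + 1) * (q ^ 2 + q + 1) / Nat.gcd 3 (q - 1) ∧
      Subgroup.centralizer (H : Set ↥(chevE6.group F)) = H := by
  subst hF
  have hq1 : 1 < Fintype.card F := Fintype.one_lt_card
  set q := Fintype.card F with hq
  have hN : (((q ^ 4 - q ^ 2 + 1) * (q ^ 2 + q + 1) : ℕ) : ℤ) = cycE6.ord chevE6.rank q := by
    rw [Cyc.ord, show chevE6.rank = 6 by decide +kernel]
    zify [show q ^ 2 ≤ q ^ 4 from Nat.pow_le_pow_right (by omega) (by norm_num)]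
    simp [Finset.sum_range_succ, cycE6]
    ring
  set N := (q ^ 4 - q ^ 2 + 1) * (q ^ 2 + q + 1) with hNd
  have hdN : Nat.gcd 3 (q - 1) ∣ N := by
    rcases (Nat.dvd_prime Nat.prime_three).1 (Nat.gcd_dvd_left 3 (q - 1)) with e | e
    · rw [e]; exact one_dvd _
    · rw [e]
      obtain ⟨t, ht⟩ : 3 ∣ q - 1 := e ▸ Nat.gcd_dvd_right 3 (q - 1)
      refine Dvd.dvd.mul_left ?_ _
      rw [show q = 3 * t + 1 by omega]
      exact ⟨3 * t ^ 2 + 3 * t + 1, by ring⟩
  refine torus_quot stdE6 stdE8 embE6 splitE6 unimodular_E8 cycE6_ok rfl obsE6 Nat.prime_three dinvE6 hN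
    hdN ?_
  rcases Nat.lt_or_ge q 13 with h | h
  · refine regular_small stdE6.good ?_
    rw [Int.natCast_div, hN]
    exact cycE6_low q h hq1
  · refine regular_large (q0 := 13) (f := 3) (B := 4) cycE6_ok stdE6.good (by norm_num)
      (by norm_num) (by exact_mod_cast h) (by norm_num) cycE6_small (by decide +kernel) ?_
    rw [← hN]
    obtain ⟨u, hu⟩ := hdN
    have hpos : 0 < Nat.gcd 3 (q - 1) := Nat.gcd_pos_of_pos_left _ (by norm_num)
    have hle : Nat.gcd 3 (q - 1) ≤ 3 := Nat.le_of_dvd (by norm_num) (Nat.gcd_dvd_left _ _)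
    have : N ≤ 3 * (N / Nat.gcd 3 (q - 1)) := by
      rw [hu, Nat.mul_div_cancel_left _ hpos]
      exact Nat.mul_le_mul_right u hle
    exact_mod_cast this

end CfsgLib.Chev.Tori
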