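/-
The cyclic torus of order `q⁸ + q⁷ - q⁵ - q⁴ - q³ + q + 1` of `E₈(q)`.
-/
import Cfsg.Agent.Lib.Chev.Tori.Main
import Cfsg.Agent.Lib.Chev.Types
import Cfsg.Agent.Lib.Chev.OrderTypes

set_option autoImplicit false
set_option maxRecDepth 100000

namespace CfsgLib.Chev.Tori

open Cfsg.Lie CfsgLib.Chev CfsgLib.KnownB.ChevField

/-- the torus datum -/
def cycE8 : Cyc where
  word := [0, 1, 2, 3, 4, 5, 6, 7]
  r0 := 239
  mat := [[-1, -1, 1, 1, 0, 1, -1, -1], [1, 0, 0, -1, 0, -1, 0, 1], [1, 0, -1, 0, 0, -1, 1, 0],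
    [-1, 1, 0, 0, 0, 1, -1, 0], [0, -1, 1, 0, 0, 0, 1, -1], [1, 1, -1, 0, -1, -1, 0, 2],
    [-2, -1, 1, 1, 2, 1, -1, -2], [2, 0, -1, -1, -1, 0, 1, 1]]
  char := [1, 1, 0, -1, -1, -1, 0, 1, 1]

theorem cycE8_ok : CycOK cycE8 chevE8 auxE8 := cycOK_of_check (by decide +kernel)

/-- the row of a root in the comparison of coefficient vectors -/
noncomputable def smallRow (r : ℕ) : Bool :=
  let vec := fun r => (List.range chevE8.rank).map fun k => cycE8.coef chevE8 auxE8 r k
  let zero : List ℤ := (List.range chevE8.rank).map fun _ => 0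
  decide (vec r ≠ zero) && (vec r).all (fun x => decide (-4 ≤ x ∧ x ≤ 4)) &&
    (List.range chevE8.nroots).all fun s =>
      (decide (r = s) || decide (vec r ≠ vec s)) &&
        ((List.zip (vec r) (vec s)).all fun p => decide (-4 ≤ p.1 - p.2 ∧ p.1 - p.2 ≤ 4))

theorem smallRow_part0 : (List.range' 0 30).all smallRow = true := by decide +kernel

theorem smallRow_part1 : (List.range' 30 30).all smallRow = true := by decide +kernel

theorem smallRow_part2 : (List.range' 60 30).all smallRow = true := by decide +kernel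

theorem smallRow_part3 : (List.range' 90 30).all smallRow = true := by decide +kernel

theorem smallRow_part4 : (List.range' 120 30).all smallRow = true := by decide +kernel

theorem smallRow_part5 : (List.range' 150 30).all smallRow = true := by decide +kernel

theorem smallRow_part6 : (List.range' 180 30).all smallRow = true := by decide +kernel

theorem smallRow_part7 : (List.range' 210 30).all smallRow = true := by decide +kernel

theorem range_split : List.range' 0 30 ++
    List.range' 30 30 ++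
    List.range' 60 30 ++
    List.range' 90 30 ++
    List.range' 120 30 ++
    List.range' 150 30 ++
    List.range' 180 30 ++
    List.range' 210 30 = (List.range chevE8.nroots) := by
  decide +kernel

theorem cycE8_small : cycE8.small chevE8 auxE8 4 = true := by
  show (List.range chevE8.nroots).all smallRow = true
  rw [← range_split]
  simp only [List.all_append, smallRow_part0, smallRow_part1, smallRow_part2, smallRow_part3, smallRow_part4, smallRow_part5, smallRow_part6, smallRow_part7, Bool.and_self]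

theorem cycE8_low : ∀ q : ℕ, q < 5 → 2 ≤ q →
    cycE8.goodAt chevE8 auxE8 q (cycE8.ord chevE8.rank q) = true := by decide +kernel

theorem det_E8 : (cartanM chevE8 auxE8).det ≠ 0 :=
  Lang.det_ne_of_smith smithE8
    (show ∀ i : Fin 8, (![1, 1, 1, 1, 1, 1, 1, 1] : Fin 8 → ℕ) i ≠ 0 by decide)

theorem regular_E8 {q : ℕ} (hq : 2 ≤ q) :
    Regular cycE8 chevE8 auxE8 q (cycE8.ord chevE8.rank q) := by
  rcases Nat.lt_or_ge q 5 with h | h
  · exact regular_small stdE8.good (cycE8_low q h hq)
  · exact regular_large (q0 := 5) (f := 1) (B := 4) cycE8_ok stdE8.good (by norm_num) (by norm_num)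
      (by exact_mod_cast h) one_pos cycE8_small (by decide +kernel) (by rw [one_mul])

universe u

/-- the self-centralising torus -/
theorem torus_E8 {F : Type u} [Field F] [Fintype F] (q : ℕ) (hF : Fintype.card F = q) :
    ∃ H : Subgroup ↥(chevE8.group F), IsCyclic ↥H ∧
      Nat.card ↥H = q ^ 8 + q ^ 7 - q ^ 5 - q ^ 4 - q ^ 3 + q + 1 ∧
      Subgroup.centralizer (H : Set ↥(chevE8.group F)) = H := by
  subst hF
  set q := Fintype.card F with hq
  have hq1 : 1 < q := Fintype.one_lt_card
  have hord : ∀ q : ℤ, cycE8.ord chevE8.rank q =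
      q ^ 8 + q ^ 7 - q ^ 5 - q ^ 4 - q ^ 3 + q + 1 := fun q => by
    rw [Cyc.ord, show chevE8.rank = 8 by decide +kernel]
    simp [Finset.sum_range_succ, cycE8]
    ring
  have h7 : q ^ 5 ≤ q ^ 7 := Nat.pow_le_pow_right (by omega) (by norm_num)
  have h4 : q ^ 4 + q ^ 3 ≤ q ^ 8 := by
    have h1 : q ^ 3 ≤ q ^ 4 := Nat.pow_le_pow_right (by omega) (by norm_num)
    have h2 : q ^ 4 * 2 ≤ q ^ 5 := by rw [pow_succ q 4]; exact Nat.mul_le_mul_left _ hq1
    have h3 : q ^ 5 ≤ q ^ 8 := Nat.pow_le_pow_right (by omega) (by norm_num)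
    omega
  have hN : ((q ^ 8 + q ^ 7 - q ^ 5 - q ^ 4 - q ^ 3 + q + 1 : ℕ) : ℤ) =
      cycE8.ord chevE8.rank q := by
    rw [hord]
    zify [show q ^ 5 ≤ q ^ 8 + q ^ 7 by omega, show q ^ 4 ≤ q ^ 8 + q ^ 7 - q ^ 5 by omega,
      show q ^ 3 ≤ q ^ 8 + q ^ 7 - q ^ 5 - q ^ 4 by omega]
  exact torus stdE8 det_E8 cycE8_ok rfl (fun K _ c d e => tor_eq_iff stdE8.good unimodular_E8 e) hN
    (hN ▸ regular_E8 hq1)

end CfsgLib.Chev.Tori
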